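import Mathlib
import Cfsg.Prelude.Def_Transfer

set_option autoImplicit false

namespace Cfsg.Agent.Lib.Helper92

theorem frattini_map_equiv {P P' : Type*} [Group P] [Group P'] (e : P ≃* P') :
    (frattini P).map e.toMonoidHom = frattini P' :=
  e.mapSubgroup.map_radical

theorem center_map_equiv {P P' : Type*} [Group P] [Group P'] (e : P ≃* P') :
    (Subgroup.center P).map e.toMonoidHom = Subgroup.center P' := by
  ext x
  constructor
  · rintro ⟨y, hy, rfl⟩
    rw [SetLike.mem_coe, Subgroup.mem_center_iff] at hy
    rw [Subgroup.mem_center_iff]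
    intro g
    obtain ⟨g', rfl⟩ := e.surjective g
    have := congrArg e (hy g')
    simpa using this
  · intro hx
    refine ⟨e.symm x, ?_, by simp⟩
    rw [SetLike.mem_coe, Subgroup.mem_center_iff]
    rw [Subgroup.mem_center_iff] at hx
    intro g
    have := congrArg e.symm (hx (e g))
    simpa using this

theorem commutator_map_equiv {P P' : Type*} [Group P] [Group P'] (e : P ≃* P') :
    (commutator P).map e.toMonoidHom = commutator P' := by
  rw [commutator_def, commutator_def, Subgroup.map_commutator, ← MonoidHom.range_eq_map,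
    MonoidHom.range_eq_top.2 e.surjective]

/-- `Cfsg.IsExtraspecial` is invariant under isomorphism. -/
theorem isExtraspecial_of_equiv {p : ℕ} {P P' : Type*} [Group P] [Group P'] (e : P ≃* P')
    (h : Cfsg.IsExtraspecial p P) : Cfsg.IsExtraspecial p P' := by
  obtain ⟨⟨h1, h2, h3⟩, h4⟩ := h
  refine ⟨⟨h1.of_equiv e, ?_, ?_⟩, ?_⟩
  · rw [← frattini_map_equiv e, ← center_map_equiv e, h2]
  · rw [← commutator_map_equiv e, ← center_map_equiv e, h3]
  · rw [← h4]
    exact Nat.card_congr (Subgroup.centerCongr e).symm.toEquiv

end Cfsg.Agent.Lib.Helper92
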