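import Mathlib
import Cfsg.Prelude.Def_MonsterType

set_option autoImplicit false

namespace Cfsg.Agent.Lib.Helper92

variable {G : Type*} [Group G]

theorem mem_zpowers_of_orderOf_two {z x : G} (hz : orderOf z = 2) (hx : x ∈ Subgroup.zpowers z) :
    x = 1 ∨ x = z := by
  obtain ⟨k, rfl⟩ := hx
  have h2 : z ^ (2 : ℤ) = 1 := by
    have := pow_orderOf_eq_one z
    rw [hz] at this
    exact_mod_cast this
  rcases Int.even_or_odd' k with ⟨m, rfl | rfl⟩
  · left
    show z ^ (2 * m) = 1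
    rw [zpow_mul, h2, one_zpow]
  · right
    show z ^ (2 * m + 1) = z
    rw [zpow_add, zpow_mul, h2, one_zpow, one_mul, zpow_one]

theorem exists_gen_of_card_two (Z : Subgroup G) (h : Nat.card Z = 2) :
    ∃ z : G, z ∈ Z ∧ z ≠ 1 ∧ orderOf z = 2 ∧ (∀ x ∈ Z, x = 1 ∨ x = z) ∧
      Z = Subgroup.zpowers z := by
  have : Finite Z := Nat.finite_of_card_ne_zero (by omega)
  have hnt : Nontrivial Z := by
    rw [← Finite.one_lt_card_iff_nontrivial]; omega
  obtain ⟨⟨z, hzZ⟩, hz1⟩ := exists_ne (1 : Z)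
  have hz1' : z ≠ 1 := fun h => hz1 (Subtype.ext h)
  have hord : orderOf z = 2 := by
    have hd : orderOf (⟨z, hzZ⟩ : Z) ∣ 2 := h ▸ orderOf_dvd_natCard _
    rw [Subgroup.orderOf_mk] at hd
    rcases (Nat.dvd_prime Nat.prime_two).1 hd with h1 | h2
    · exact absurd (orderOf_eq_one_iff.1 h1) hz1'
    · exact h2
  have hle : Subgroup.zpowers z ≤ Z := by
    rw [Subgroup.zpowers_le]; exact hzZ
  have heq : Subgroup.zpowers z = Z := by
    apply Subgroup.eq_of_le_of_card_ge hle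
    rw [Nat.card_zpowers, hord, h]
  refine ⟨z, hzZ, hz1', hord, ?_, heq.symm⟩
  intro x hx
  rw [← heq] at hx
  exact mem_zpowers_of_orderOf_two hord hx

theorem le_normalizer_of_conj_mem {S H : Subgroup G} (h : ∀ q ∈ S, ∀ x ∈ H, q * x * q⁻¹ ∈ H) :
    S ≤ Subgroup.normalizer (H : Set G) := by
  intro q hq
  rw [Subgroup.mem_normalizer_iff]
  intro x
  refine ⟨h q hq x, fun hx => ?_⟩
  have := h q⁻¹ (S.inv_mem hq) _ hx
  have e : q⁻¹ * (q * x * q⁻¹) * q⁻¹⁻¹ = x := by group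
  rwa [e] at this

theorem conj_mem_of_le_normalizer {S H : Subgroup G} (h : S ≤ Subgroup.normalizer (H : Set G))
    {q x : G} (hq : q ∈ S) (hx : x ∈ H) : q * x * q⁻¹ ∈ H :=
  (Subgroup.mem_normalizer_iff.1 (h hq) x).1 hx

theorem finite_of_odd_card {α : Type*} (h : Odd (Nat.card α)) : Finite α :=
  Nat.finite_of_card_ne_zero (by
    intro h0
    rw [h0] at h
    exact absurd h (by decide))

theorem mul_self_eq_one_of_orderOf_two {x : G} (h : orderOf x = 2) : x * x = 1 := by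
  rw [← sq, ← h, pow_orderOf_eq_one]

theorem inv_eq_self_of_orderOf_two {x : G} (h : orderOf x = 2) : x⁻¹ = x :=
  inv_eq_of_mul_eq_one_left (mul_self_eq_one_of_orderOf_two h)

end Cfsg.Agent.Lib.Helper92
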