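import Mathlib
import Cfsg.Prelude.Def_MonsterType
import Cfsg.Agent.Lib.Helper92.Basic

set_option autoImplicit false

namespace Cfsg.Agent.Lib.Helper92

variable {G : Type*} [Group G]

open scoped commutatorElement

theorem pCore_isPGroup (p : ℕ) (H : Type*) [Group H] : IsPGroup p (Cfsg.pCore p H) :=
  Sylow.sSup_of_normal _ (fun _ h => h.2) (fun _ h => h.1)

theorem eq_one_of_mem_odd_of_mem_two_group {K P : Subgroup G} (hK : Odd (Nat.card K))
    (hP : IsPGroup 2 P) {x : G} (hxK : x ∈ K) (hxP : x ∈ P) : x = 1 := by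
  obtain ⟨k, hk⟩ := hP ⟨x, hxP⟩
  have hk' : x ^ 2 ^ k = 1 := congrArg Subtype.val hk
  have h1 : orderOf x ∣ 2 ^ k := orderOf_dvd_of_pow_eq_one hk'
  have h2 : orderOf x ∣ Nat.card K := by
    have := orderOf_dvd_natCard (⟨x, hxK⟩ : K)
    rwa [Subgroup.orderOf_mk] at this
  have hcop : Nat.Coprime (2 ^ k) (Nat.card K) :=
    Nat.Coprime.pow_left k (Nat.coprime_two_left.2 hK)
  have : orderOf x = 1 := Nat.eq_one_of_dvd_coprimes hcop h1 h2
  exact orderOf_eq_one_iff.1 this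

theorem odd_card_of_le {K L : Subgroup G} (hK : Odd (Nat.card K)) (h : L ≤ K) :
    Odd (Nat.card L) :=
  Odd.of_dvd_nat hK (Subgroup.card_dvd_of_le h)

/-- the centre of `Q` viewed in `G`. -/
abbrev ZZ (Q : Subgroup G) : Subgroup G := (Subgroup.center ↥Q).map Q.subtype

theorem ZZ_le (Q : Subgroup G) : ZZ Q ≤ Q := by
  rintro _ ⟨y, -, rfl⟩
  exact y.2

theorem mem_ZZ_iff {Q : Subgroup G} {x : G} :
    x ∈ ZZ Q ↔ x ∈ Q ∧ ∀ q ∈ Q, q * x = x * q := by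
  constructor
  · rintro ⟨y, hy, rfl⟩
    refine ⟨y.2, fun q hq => ?_⟩
    exact congrArg Subtype.val (Subgroup.mem_center_iff.1 hy ⟨q, hq⟩)
  · rintro ⟨hx, h⟩
    refine ⟨⟨x, hx⟩, ?_, rfl⟩
    rw [SetLike.mem_coe, Subgroup.mem_center_iff]
    intro g
    exact Subtype.ext (h g g.2)

theorem card_ZZ {Q : Subgroup G} (hL1 : Cfsg.IsExtraspecial 2 ↥Q) : Nat.card (ZZ Q) = 2 := by
  rw [Subgroup.card_map_of_injective Q.subtype_injective]; exact hL1.2

theorem le_centralizer_ZZ (Q : Subgroup G) : Q ≤ Subgroup.centralizer ((ZZ Q : Subgroup G) : Set G) := by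
  intro q hq
  rw [Subgroup.mem_centralizer_iff]
  intro x hx
  exact ((mem_ZZ_iff.1 hx).2 q hq).symm

/-- commutators in an extraspecial group lie in the centre -/
theorem comm_mem_ZZ {Q : Subgroup G} (hL1 : Cfsg.IsExtraspecial 2 ↥Q) {a b : G} (ha : a ∈ Q)
    (hb : b ∈ Q) : a * b * a⁻¹ * b⁻¹ ∈ ZZ Q := by
  have h : ⁅(⟨a, ha⟩ : Q), ⟨b, hb⟩⁆ ∈ commutator Q :=
    Subgroup.commutator_mem_commutator (Subgroup.mem_top _) (Subgroup.mem_top _)
  rw [hL1.1.2.2] at h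
  exact ⟨_, h, rfl⟩

theorem exists_conj_eq_mul {Q : Subgroup G} (hL1 : Cfsg.IsExtraspecial 2 ↥Q) {z : G}
    (hz : ∀ x ∈ ZZ Q, x = 1 ∨ x = z) {b : G} (hb : b ∈ Q) (hbZ : b ∉ ZZ Q) :
    ∃ q ∈ Q, q * b * q⁻¹ = z * b := by
  have : ¬ ∀ q ∈ Q, q * b = b * q := fun h => hbZ (mem_ZZ_iff.2 ⟨hb, h⟩)
  push Not at this
  obtain ⟨q, hq, hne⟩ := this
  refine ⟨q, hq, ?_⟩
  rcases hz _ (comm_mem_ZZ hL1 hq hb) with h | h
  · exfalso
    apply hne
    calc q * b = (q * b * q⁻¹ * b⁻¹) * (b * q) := by group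
      _ = b * q := by rw [h, one_mul]
  · calc q * b * q⁻¹ = (q * b * q⁻¹ * b⁻¹) * b := by group
      _ = z * b := by rw [h]

theorem eq_bot_of_odd_of_le_centralizer_ZZ {Q K : Subgroup G}
    (hL1 : Cfsg.IsExtraspecial 2 ↥Q)
    (hL2 : Subgroup.centralizer (Q : Set G) = ((Subgroup.center ↥Q).map Q.subtype))
    (hL3 : Subgroup.centralizer (((Subgroup.center ↥Q).map Q.subtype) : Set G) ≤
      Subgroup.normalizer (Q : Set G))
    (hK : Odd (Nat.card K)) (hQK : Q ≤ Subgroup.normalizer (K : Set G))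
    (hKZ : K ≤ Subgroup.centralizer (((Subgroup.center ↥Q).map Q.subtype) : Set G)) : K = ⊥ := by
  rw [eq_bot_iff]
  intro k hk
  have hkC : k ∈ Subgroup.centralizer (Q : Set G) := by
    rw [Subgroup.mem_centralizer_iff]
    intro q hq
    have h1 : k * q * k⁻¹ * q⁻¹ ∈ K := by
      have : q * k⁻¹ * q⁻¹ ∈ K := (Subgroup.mem_normalizer_iff.1 (hQK hq) _).1 (K.inv_mem hk)
      have h := K.mul_mem hk this
      have e : k * (q * k⁻¹ * q⁻¹) = k * q * k⁻¹ * q⁻¹ := by group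
      rwa [e] at h
    have h2 : k * q * k⁻¹ * q⁻¹ ∈ Q := by
      have : k * q * k⁻¹ ∈ Q := (Subgroup.mem_normalizer_iff.1 (hL3 (hKZ hk)) _).1 hq
      exact Q.mul_mem this (Q.inv_mem hq)
    have h3 := eq_one_of_mem_odd_of_mem_two_group hK hL1.1.1 h1 h2
    calc q * k = (k * q * k⁻¹ * q⁻¹)⁻¹ * (k * q) := by group
      _ = k * q := by rw [h3]; simp
  rw [hL2] at hkC
  exact eq_one_of_mem_odd_of_mem_two_group hK hL1.1.1 hk (ZZ_le Q hkC)

/-- An involution acting without fixed points on a finite group inverts it. -/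
theorem inverts_of_fixedPointFree {K : Subgroup G} [Finite K] {t : G} (ht : t * t = 1)
    (htK : ∀ k ∈ K, t * k * t⁻¹ ∈ K) (hfix : ∀ k ∈ K, t * k * t⁻¹ = k → k = 1) :
    ∀ k ∈ K, t * k * t⁻¹ = k⁻¹ := by
  let f : K → K := fun k => ⟨(k : G)⁻¹ * (t * k * t⁻¹), K.mul_mem (K.inv_mem k.2) (htK k k.2)⟩
  have hinj : Function.Injective f := by
    intro k l hkl
    have h : (k : G)⁻¹ * (t * k * t⁻¹) = (l : G)⁻¹ * (t * l * t⁻¹) := congrArg Subtype.val hkl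
    have h2 : t * ((l : G) * (k : G)⁻¹) * t⁻¹ = (l : G) * (k : G)⁻¹ := by
      calc t * ((l : G) * (k : G)⁻¹) * t⁻¹ = (l : G) * ((l : G)⁻¹ * (t * l * t⁻¹)) * (t * k * t⁻¹)⁻¹ := by
            group
        _ = (l : G) * ((k : G)⁻¹ * (t * k * t⁻¹)) * (t * k * t⁻¹)⁻¹ := by rw [h]
        _ = (l : G) * (k : G)⁻¹ := by group
    have h3 := hfix _ (K.mul_mem l.2 (K.inv_mem k.2)) h2
    apply Subtype.ext
    exact (mul_inv_eq_one.1 h3).symm
  have hsurj : Function.Surjective f := Finite.surjective_of_injective hinj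
  intro k hk
  obtain ⟨l, hl⟩ := hsurj ⟨k, hk⟩
  have hl' : (l : G)⁻¹ * (t * l * t⁻¹) = k := congrArg Subtype.val hl
  have htinv : t⁻¹ = t := inv_eq_of_mul_eq_one_left ht
  rw [← hl', htinv]
  calc t * ((l : G)⁻¹ * (t * l * t)) * t = t * (l : G)⁻¹ * t * l * (t * t) := by group
    _ = t * (l : G)⁻¹ * t * l := by rw [ht, mul_one]
    _ = ((l : G)⁻¹ * (t * l * t))⁻¹ := by
      rw [mul_inv_rev, mul_inv_rev, mul_inv_rev, htinv, inv_inv]; group

end Cfsg.Agent.Lib.Helper92
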