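import Mathlib
import Cfsg.Prelude.Def_MonsterType
import Cfsg.Agent.Lib.Helper92.LargeES
import Cfsg.Agent.Lib.Helper92.Conj

set_option autoImplicit false

namespace Cfsg.Agent.Lib.Helper92

variable {G : Type*} [Group G]

/-- Elementwise data of an extraspecial 2-subgroup `Q` with centre `{1, z}`, `C_G(Q) = Z(Q)` and
`C_G(z) ≤ N_G(Q)`. -/
structure ESData (Q : Subgroup G) (z : G) : Prop where
  zQ : z ∈ Q
  z1 : z ≠ 1
  zz : z * z = 1
  zc : ∀ a ∈ Q, Commute a z
  comm : ∀ a ∈ Q, ∀ b ∈ Q, a * b * a⁻¹ * b⁻¹ = 1 ∨ a * b * a⁻¹ * b⁻¹ = z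
  cent : ∀ c : G, (∀ a ∈ Q, Commute a c) → c = 1 ∨ c = z
  norm : ∀ c : G, Commute c z → ∀ a ∈ Q, c * a * c⁻¹ ∈ Q
  two : IsPGroup 2 Q

theorem ESData.of {Q : Subgroup G} (hL1 : Cfsg.IsExtraspecial 2 ↥Q)
    (hL2 : Subgroup.centralizer (Q : Set G) = ((Subgroup.center ↥Q).map Q.subtype))
    (hL3 : Subgroup.centralizer (((Subgroup.center ↥Q).map Q.subtype) : Set G) ≤
      Subgroup.normalizer (Q : Set G)) {z : G} (hzZ : z ∈ ZZ Q) (hz1 : z ≠ 1)
    (hzord : orderOf z = 2) (hzall : ∀ x ∈ ZZ Q, x = 1 ∨ x = z) : ESData Q z where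
  zQ := ZZ_le Q hzZ
  z1 := hz1
  zz := mul_self_eq_one_of_orderOf_two hzord
  zc := fun a ha => (mem_ZZ_iff.1 hzZ).2 a ha
  comm := fun a ha b hb => hzall _ (comm_mem_ZZ hL1 ha hb)
  cent := fun c hc => hzall c (by
    show c ∈ (Subgroup.center ↥Q).map Q.subtype
    rw [← hL2, Subgroup.mem_centralizer_iff]
    exact fun a ha => hc a ha)
  norm := fun c hc a ha => by
    refine conj_mem_of_le_normalizer hL3 ?_ ha
    rw [Subgroup.mem_centralizer_iff]
    intro x hx
    rcases hzall x hx with rfl | rfl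
    · simp
    · exact hc.symm
  two := hL1.1.1

theorem ESData.exists_of {Q : Subgroup G} (hL1 : Cfsg.IsExtraspecial 2 ↥Q)
    (hL2 : Subgroup.centralizer (Q : Set G) = ((Subgroup.center ↥Q).map Q.subtype))
    (hL3 : Subgroup.centralizer (((Subgroup.center ↥Q).map Q.subtype) : Set G) ≤
      Subgroup.normalizer (Q : Set G)) :
    ∃ z : G, ESData Q z ∧ z ∈ ZZ Q ∧ orderOf z = 2 ∧ (∀ x ∈ ZZ Q, x = 1 ∨ x = z) ∧
      ZZ Q = Subgroup.zpowers z := by
  obtain ⟨z, hzZ, hz1, hzord, hzall, hZz⟩ := exists_gen_of_card_two _ (card_ZZ hL1)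
  exact ⟨z, ESData.of hL1 hL2 hL3 hzZ hz1 hzord hzall, hzZ, hzord, hzall, hZz⟩

theorem ESData.map {Q : Subgroup G} {z : G} (h : ESData Q z) (φ : G ≃* G) :
    ESData (Q.map φ.toMonoidHom) (φ z) where
  zQ := ⟨z, h.zQ, rfl⟩
  z1 := fun hz => h.z1 (by simpa using hz)
  zz := by rw [← map_mul, h.zz, map_one]
  zc := by
    rintro _ ⟨a, ha, rfl⟩
    exact (h.zc a ha).map φ
  comm := by
    rintro _ ⟨a, ha, rfl⟩ _ ⟨b, hb, rfl⟩
    have e : φ.toMonoidHom a * φ.toMonoidHom b * (φ.toMonoidHom a)⁻¹ * (φ.toMonoidHom b)⁻¹ =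
        φ (a * b * a⁻¹ * b⁻¹) := by simp
    rw [e]
    rcases h.comm a ha b hb with h1 | h1
    · left; rw [h1, map_one]
    · right; rw [h1]
  cent := by
    intro c hc
    have h1 : ∀ a ∈ Q, Commute a (φ.symm c) := by
      intro a ha
      have := (hc (φ a) ⟨a, ha, rfl⟩).map φ.symm
      simpa using this
    rcases h.cent _ h1 with h2 | h2
    · left
      have := congrArg φ h2
      simpa using this
    · right
      have := congrArg φ h2
      simpa using this
  norm := by
    rintro c hc _ ⟨a, ha, rfl⟩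
    have h1 : Commute (φ.symm c) z := by
      have := hc.map φ.symm
      simpa using this
    refine ⟨_, h.norm _ h1 a ha, ?_⟩
    simp
  two := h.two.map _

theorem ESData.conj {Q : Subgroup G} {z : G} (h : ESData Q z) (g : G) :
    ESData (Q.map (MulAut.conj g).toMonoidHom) (g * z * g⁻¹) :=
  h.map (MulAut.conj g)

theorem ESData.zinv {Q : Subgroup G} {z : G} (h : ESData Q z) : z⁻¹ = z :=
  inv_eq_of_mul_eq_one_left h.zz

theorem ESData.exists_q {Q : Subgroup G} {z s : G} (h : ESData Q z) (hs : s ∈ Q) (hs1 : s ≠ 1)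
    (hsz : s ≠ z) : ∃ q ∈ Q, q * s * q⁻¹ = z * s := by
  by_contra hcon
  push Not at hcon
  have : ∀ a ∈ Q, Commute a s := by
    intro a ha
    rcases h.comm a ha s hs with h1 | h1
    · show a * s = s * a
      calc a * s = (a * s * a⁻¹ * s⁻¹) * (s * a) := by group
        _ = s * a := by rw [h1, one_mul]
    · exfalso
      apply hcon a ha
      calc a * s * a⁻¹ = (a * s * a⁻¹ * s⁻¹) * s := by group
        _ = z * s := by rw [h1]
  rcases h.cent s this with h1 | h1
  · exact hs1 h1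
  · exact hsz h1

theorem commute_of_conj_eq {a b : G} (h : a * b * a⁻¹ = b) : Commute a b :=
  mul_inv_eq_iff_eq_mul.1 h

theorem conj_eq_of_commute {a b : G} (h : Commute a b) : a * b * a⁻¹ = b :=
  mul_inv_eq_iff_eq_mul.2 h

section pair

variable {Q : Subgroup G} {z s q : G}

theorem ESData.rel_back (h : ESData Q z) (hq : q * s * q⁻¹ = z * s) :
    q⁻¹ * (z * s) * q = s := by
  rw [← hq]; group

theorem ESData.rel_qinv (h : ESData Q z) (hqQ : q ∈ Q) (hq : q * s * q⁻¹ = z * s) :
    q⁻¹ * s * q = z * s := by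
  have hzq : Commute q z := h.zc q hqQ
  have h1 := h.rel_back hq
  have h2 : q⁻¹ * (z * s) * q = z * (q⁻¹ * s * q) := by
    have : q⁻¹ * z = z * q⁻¹ := (hzq.inv_left).eq
    calc q⁻¹ * (z * s) * q = (q⁻¹ * z) * s * q := by group
      _ = z * q⁻¹ * s * q := by rw [this]
      _ = z * (q⁻¹ * s * q) := by group
  calc q⁻¹ * s * q = (z * z) * (q⁻¹ * s * q) := by rw [h.zz, one_mul]
    _ = z * (z * (q⁻¹ * s * q)) := by group
    _ = z * s := by rw [← h2, h1]

theorem ESData.dichotomy (h : ESData Q z) (hs : s ∈ Q) (hq : q * s * q⁻¹ = z * s) {a : G}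
    (ha : a ∈ Q) : Commute a s ∨ Commute (q⁻¹ * a) s := by
  rcases h.comm a ha s hs with h1 | h1
  · left
    apply commute_of_conj_eq
    calc a * s * a⁻¹ = (a * s * a⁻¹ * s⁻¹) * s := by group
      _ = s := by rw [h1, one_mul]
  · right
    apply commute_of_conj_eq
    have h2 : a * s * a⁻¹ = z * s := by
      calc a * s * a⁻¹ = (a * s * a⁻¹ * s⁻¹) * s := by group
        _ = z * s := by rw [h1]
    calc q⁻¹ * a * s * (q⁻¹ * a)⁻¹ = q⁻¹ * (a * s * a⁻¹) * q := by group
      _ = q⁻¹ * (z * s) * q := by rw [h2]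
      _ = s := h.rel_back hq

theorem ESData.commute_all (h : ESData Q z) (hs : s ∈ Q) (hqQ : q ∈ Q)
    (hq : q * s * q⁻¹ = z * s) {c : G} (hcU : ∀ u ∈ Q, Commute u s → Commute u c)
    (hcq : Commute q c) : ∀ a ∈ Q, Commute a c := by
  intro a ha
  rcases h.dichotomy hs hq ha with h1 | h1
  · exact hcU a ha h1
  · have h2 := hcU _ (Q.mul_mem (Q.inv_mem hqQ) ha) h1
    have h3 := hcq.mul_left h2
    have e : q * (q⁻¹ * a) = a := by group
    rwa [e] at h3

/-- `C_G(C_Q(s)) = ⟨z, s⟩`. -/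
theorem ESData.centralizer_CQ (h : ESData Q z) (hs : s ∈ Q) (hss : s * s = 1) (hqQ : q ∈ Q)
    (hq : q * s * q⁻¹ = z * s) {c : G} (hc : ∀ u ∈ Q, Commute u s → Commute u c) :
    c = 1 ∨ c = z ∨ c = s ∨ c = z * s := by
  have hzs : Commute z s := (h.zc s hs).symm
  have hzc : Commute z c := hc z h.zQ hzs
  have hsc : Commute s c := hc s hs (Commute.refl s)
  have hqz : Commute q z := h.zc q hqQ
  have hsinv : s⁻¹ = s := inv_eq_of_mul_eq_one_left hss
  have hcq : c * q * c⁻¹ ∈ Q := h.norm c hzc.symm q hqQ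
  have hyQ : q⁻¹ * (c * q * c⁻¹) ∈ Q := Q.mul_mem (Q.inv_mem hqQ) hcq
  -- `y` commutes with `U`
  have hyU : ∀ u ∈ Q, Commute u s → Commute u (q⁻¹ * (c * q * c⁻¹)) := by
    intro u hu hus
    have hu' : q * u * q⁻¹ ∈ Q := Q.mul_mem (Q.mul_mem hqQ hu) (Q.inv_mem hqQ)
    have hu's : Commute (q * u * q⁻¹) s := by
      rcases h.comm q hqQ u hu with h1 | h1
      · have : q * u * q⁻¹ = u := by
          calc q * u * q⁻¹ = (q * u * q⁻¹ * u⁻¹) * u := by group
            _ = u := by rw [h1, one_mul]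
        rw [this]; exact hus
      · have : q * u * q⁻¹ = z * u := by
          calc q * u * q⁻¹ = (q * u * q⁻¹ * u⁻¹) * u := by group
            _ = z * u := by rw [h1]
        rw [this]; exact hzs.mul_left hus
    have h1 : Commute (q * u * q⁻¹) c := hc _ hu' hu's
    have h2 : Commute u c := hc u hu hus
    symm
    apply commute_of_conj_eq
    have e1 : c⁻¹ * u * c = u := by
      have := conj_eq_of_commute h2.symm.inv_left
      rwa [inv_inv] at this
    have e2 : c * (q * u * q⁻¹) * c⁻¹ = q * u * q⁻¹ := conj_eq_of_commute h1.symm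
    calc q⁻¹ * (c * q * c⁻¹) * u * (q⁻¹ * (c * q * c⁻¹))⁻¹
        = q⁻¹ * (c * (q * (c⁻¹ * u * c) * q⁻¹) * c⁻¹) * q := by group
      _ = q⁻¹ * (c * (q * u * q⁻¹) * c⁻¹) * q := by rw [e1]
      _ = q⁻¹ * (q * u * q⁻¹) * q := by rw [e2]
      _ = u := by group
  -- square relation
  have hqqs : Commute (q * q) s := by
    apply commute_of_conj_eq
    calc q * q * s * (q * q)⁻¹ = q * (q * s * q⁻¹) * q⁻¹ := by group
      _ = q * (z * s) * q⁻¹ := by rw [hq]
      _ = (q * z * q⁻¹) * (q * s * q⁻¹) := by group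
      _ = z * (z * s) := by rw [conj_eq_of_commute hqz, hq]
      _ = (z * z) * s := by group
      _ = s := by rw [h.zz, one_mul]
  have hqqc : Commute (q * q) c := hc _ (Q.mul_mem hqQ hqQ) hqqs
  generalize hy : q⁻¹ * (c * q * c⁻¹) = y at hyQ hyU
  have hcqy : c * q * c⁻¹ = q * y := by rw [← hy]; group
  have hsq : (q⁻¹ * y * q) * y = 1 := by
    have h1 : (c * q * c⁻¹) * (c * q * c⁻¹) = q * q := by
      calc (c * q * c⁻¹) * (c * q * c⁻¹) = c * (q * q) * c⁻¹ := by group
        _ = q * q := conj_eq_of_commute hqqc.symm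
    rw [hcqy] at h1
    calc (q⁻¹ * y * q) * y = q⁻¹ * q⁻¹ * (q * y * (q * y)) := by group
      _ = q⁻¹ * q⁻¹ * (q * q) := by rw [h1]
      _ = 1 := by group
  have hqinv := h.rel_qinv hqQ hq
  -- `y ∈ {1, z}`
  have hy1z : y = 1 ∨ y = z := by
    rcases h.comm q hqQ y hyQ with h1 | h1
    · apply h.cent
      apply h.commute_all hs hqQ hq hyU
      apply commute_of_conj_eq
      calc q * y * q⁻¹ = (q * y * q⁻¹ * y⁻¹) * y := by group
        _ = y := by rw [h1, one_mul]
    · exfalso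
      have h2 : q * y * q⁻¹ = z * y := by
        calc q * y * q⁻¹ = (q * y * q⁻¹ * y⁻¹) * y := by group
          _ = z * y := by rw [h1]
      have hzy : Commute z y := (h.zc y hyQ).symm
      have h3 : ∀ a ∈ Q, Commute a (y * s) := by
        apply h.commute_all hs hqQ hq
        · intro u hu hus
          exact (hyU u hu hus).mul_right hus
        · apply commute_of_conj_eq
          calc q * (y * s) * q⁻¹ = (q * y * q⁻¹) * (q * s * q⁻¹) := by group
            _ = (z * y) * (z * s) := by rw [h2, hq]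
            _ = z * (y * z) * s := by group
            _ = z * (z * y) * s := by rw [hzy.eq]
            _ = (z * z) * (y * s) := by group
            _ = y * s := by rw [h.zz, one_mul]
      have h4 : y = s ∨ y = z * s := by
        rcases h.cent _ h3 with h5 | h5
        · left
          calc y = (y * s) * s⁻¹ := by group
            _ = s := by rw [h5, one_mul, hsinv]
        · right
          calc y = (y * s) * s⁻¹ := by group
            _ = z * s := by rw [h5, hsinv]
      apply h.z1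
      rcases h4 with rfl | rfl
      · rw [hqinv] at hsq
        calc z = z * (y * y) := by rw [hss, mul_one]
          _ = z * y * y := by group
          _ = 1 := hsq
      · have e : q⁻¹ * (z * s) * q = s := h.rel_back hq
        rw [e] at hsq
        calc z = (s * s) * z := by rw [hss, one_mul]
          _ = s * (s * z) := by group
          _ = s * (z * s) := by rw [hzs.eq]
          _ = 1 := hsq
  rcases hy1z with rfl | rfl
  · have hqc : Commute q c := by
      symm
      apply commute_of_conj_eq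
      rw [hcqy, mul_one]
    rcases h.cent c (h.commute_all hs hqQ hq hc hqc) with h1 | h1
    · exact Or.inl h1
    · exact Or.inr (Or.inl h1)
  · -- `c q c⁻¹ = q z`
    have hsq' : s * q * s⁻¹ = y * q := by
      have h1 : q * s = y * s * q := by
        calc q * s = (q * s * q⁻¹) * q := by group
          _ = y * s * q := by rw [hq]
      calc s * q * s⁻¹ = (y * y) * s * q * s⁻¹ := by rw [h.zz, one_mul]
        _ = y * (y * s * q) * s⁻¹ := by group
        _ = y * (q * s) * s⁻¹ := by rw [← h1]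
        _ = y * q := by group
    have h3 : ∀ a ∈ Q, Commute a (s * c) := by
      apply h.commute_all hs hqQ hq
      · intro u hu hus
        exact hus.mul_right (hc u hu hus)
      · symm
        apply commute_of_conj_eq
        calc s * c * q * (s * c)⁻¹ = s * (c * q * c⁻¹) * s⁻¹ := by group
          _ = s * (q * y) * s⁻¹ := by rw [hcqy]
          _ = (s * q * s⁻¹) * (s * y * s⁻¹) := by group
          _ = (y * q) * y := by rw [hsq', conj_eq_of_commute hzs.symm]
          _ = y * (q * y) := by group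
          _ = y * (y * q) := by rw [hqz.eq]
          _ = (y * y) * q := by group
          _ = q := by rw [h.zz, one_mul]
    rcases h.cent _ h3 with h5 | h5
    · right; right; left
      calc c = s⁻¹ * (s * c) := by group
        _ = s := by rw [h5, mul_one, hsinv]
    · right; right; right
      calc c = s⁻¹ * (s * c) := by group
        _ = s * y := by rw [h5, hsinv]
        _ = y * s := hzs.symm.eq

end pair

theorem exists_maximal_pSubgroup {p : ℕ} (Y R : Subgroup G) (hR : IsPGroup p R) (hRY : R ≤ Y) :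
    ∃ T : Subgroup G, R ≤ T ∧ T ≤ Y ∧ IsPGroup p T ∧
      ∀ T' : Subgroup G, IsPGroup p T' → T ≤ T' → T' ≤ Y → T' = T := by
  obtain ⟨P, hP⟩ := (hR.comap_subtype : IsPGroup p (R.subgroupOf Y)).exists_le_sylow
  refine ⟨(P : Subgroup Y).map Y.subtype, ?_, Subgroup.map_subtype_le _, P.2.map _, ?_⟩
  · intro r hr
    exact ⟨⟨r, hRY hr⟩, hP (by simpa [Subgroup.mem_subgroupOf] using hr), rfl⟩
  · intro T' hT' hle hT'Y
    have h1 : (P : Subgroup Y) ≤ T'.subgroupOf Y := by
      intro x hx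
      rw [Subgroup.mem_subgroupOf]
      exact hle ⟨x, hx, rfl⟩
    have h2 : T'.subgroupOf Y = P := P.3 hT'.comap_subtype h1
    rw [← h2, Subgroup.map_subgroupOf_eq_of_le hT'Y]

theorem lt_inf_normalizer' [Finite G] {p : ℕ} [Fact p.Prime] {S B : Subgroup G}
    (hS : IsPGroup p S) (h : B < S) : ∃ x ∈ S, x ∈ Subgroup.normalizer (B : Set G) ∧ x ∉ B := by
  have hnil : Group.IsNilpotent S := hS.isNilpotent
  have hnc := Group.normalizerCondition_of_isNilpotent (G := S)
  have h1 : B.subgroupOf S < ⊤ := by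
    rw [lt_top_iff_ne_top]
    intro h2
    rw [Subgroup.subgroupOf_eq_top] at h2
    exact absurd (le_antisymm h.le h2) h.ne
  have h2 := hnc _ h1
  rw [← Subgroup.subgroupOf_normalizer_eq h.le] at h2
  obtain ⟨_, x, hx, hxn⟩ := SetLike.lt_iff_le_and_exists.mp h2
  exact ⟨x, x.2, hx, hxn⟩

/-- If a conjugate `s ≠ z` of `z` lies in `Q`, some element centralizing `s` maps `z` to `z s`. -/
theorem ESData.exists_swap [Finite G] {Q : Subgroup G} {z : G} (h : ESData Q z) (g : G)
    (hs : g * z * g⁻¹ ∈ Q) (hne : g * z * g⁻¹ ≠ z) :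
    ∃ x, Commute x (g * z * g⁻¹) ∧ x * z * x⁻¹ = z * (g * z * g⁻¹) := by
  have : Fact (Nat.Prime 2) := ⟨Nat.prime_two⟩
  have hP := h.conj g
  generalize hsdef : g * z * g⁻¹ = s at hs hne hP
  generalize Q.map (MulAut.conj g).toMonoidHom = P at hP
  have hs1 : s ≠ 1 := hP.z1
  have hss : s * s = 1 := hP.zz
  obtain ⟨q, hqQ, hq⟩ := h.exists_q hs hs1 hne
  have hzs : Commute z s := (h.zc s hs).symm
  -- the groups
  have hUY : Q ⊓ Subgroup.centralizer {s} ≤ Subgroup.centralizer {z} ⊓ Subgroup.centralizer {s} := by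
    intro u hu
    rw [Subgroup.mem_inf] at hu ⊢
    exact ⟨Subgroup.mem_centralizer_singleton_iff.2 (h.zc u hu.1), hu.2⟩
  obtain ⟨T, hUT, hTY, hT2, hTmax⟩ := exists_maximal_pSubgroup (p := 2) _ _
    (h.two.to_le inf_le_left) hUY
  obtain ⟨T₁, hTT₁, hT₁H, hT₁2, hT₁max⟩ := exists_maximal_pSubgroup (p := 2)
    (Subgroup.centralizer {s}) T hT2 (hTY.trans inf_le_right)
  have hPH : P ≤ Subgroup.centralizer {s} := fun a ha =>
    Subgroup.mem_centralizer_singleton_iff.2 (hP.zc a ha)
  have hPT₁ : P ≤ T₁ := by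
    have hn : T₁ ≤ Subgroup.normalizer (P : Set G) := by
      apply le_normalizer_of_conj_mem
      intro t ht a ha
      exact hP.norm t (Subgroup.mem_centralizer_singleton_iff.1 (hT₁H ht)) a ha
    have h1 := hT₁max (T₁ ⊔ P) (hT₁2.to_sup_of_normal_right' hP.two hn) le_sup_left
      (sup_le hT₁H hPH)
    rw [← h1]; exact le_sup_right
  have hTne : T ≠ T₁ := by
    intro hTT
    have h1 : ∀ a ∈ P, Commute a z := by
      intro a ha
      have := hTY (hTT ▸ hPT₁ ha)
      exact Subgroup.mem_centralizer_singleton_iff.1 (Subgroup.mem_inf.1 this).1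
    rcases hP.cent z h1 with h2 | h2
    · exact h.z1 h2
    · exact hne h2.symm
  obtain ⟨x, hxT₁, hxN, hxT⟩ := lt_inf_normalizer' hT₁2 (lt_of_le_of_ne hTT₁ hTne)
  have hxs : Commute x s := Subgroup.mem_centralizer_singleton_iff.1 (hT₁H hxT₁)
  refine ⟨x, hxs, ?_⟩
  have hcU : ∀ u ∈ Q, Commute u s → Commute u (x * z * x⁻¹) := by
    intro u hu hus
    have huT : u ∈ T := hUT (Subgroup.mem_inf.2 ⟨hu, Subgroup.mem_centralizer_singleton_iff.2 hus⟩)
    have h1 : x⁻¹ * u * x ∈ T := (Subgroup.mem_normalizer_iff''.1 hxN u).1 huT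
    have h2 : Commute (x⁻¹ * u * x) z :=
      Subgroup.mem_centralizer_singleton_iff.1 (Subgroup.mem_inf.1 (hTY h1)).1
    show u * (x * z * x⁻¹) = x * z * x⁻¹ * u
    calc u * (x * z * x⁻¹) = x * ((x⁻¹ * u * x) * z) * x⁻¹ := by group
      _ = x * (z * (x⁻¹ * u * x)) * x⁻¹ := by rw [h2.eq]
      _ = x * z * x⁻¹ * u := by group
  rcases h.centralizer_CQ hs hss hqQ hq hcU with h1 | h1 | h1 | h1
  · exfalso
    apply h.z1
    calc z = x⁻¹ * (x * z * x⁻¹) * x := by group
      _ = 1 := by rw [h1]; group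
  · exfalso
    apply hxT
    have hxY : x ∈ Subgroup.centralizer {z} ⊓ Subgroup.centralizer {s} :=
      Subgroup.mem_inf.2 ⟨Subgroup.mem_centralizer_singleton_iff.2 (commute_of_conj_eq h1),
        Subgroup.mem_centralizer_singleton_iff.2 hxs⟩
    have h2 := hTmax (T ⊔ Subgroup.zpowers x)
      (hT₁2.to_le (sup_le hTT₁ (by rw [Subgroup.zpowers_le]; exact hxT₁))) le_sup_left
      (sup_le hTY (by rw [Subgroup.zpowers_le]; exact hxY))
    rw [← h2]
    exact Subgroup.mem_sup_right (Subgroup.mem_zpowers x)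
  · exfalso
    apply hne
    have h2 : x * s * x⁻¹ = s := conj_eq_of_commute hxs
    have h3 : x * z * x⁻¹ = x * s * x⁻¹ := by rw [h1, h2]
    have h4 : z = s := by
      have := congrArg (fun t => x⁻¹ * t * x) h3
      simpa [mul_assoc] using this
    exact h4.symm
  · exact h1

end Cfsg.Agent.Lib.Helper92
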