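import Mathlib
import Cfsg.Prelude.Def_MonsterType
import Cfsg.Agent.Lib.Helper92.ESPair
import Cfsg.Agent.Lib.Helper3.PGroup

set_option autoImplicit false

namespace Cfsg.Agent.Lib.Helper92

open scoped commutatorElement

/-- Recognition of an extraspecial 2-group from elementwise data. -/
theorem isExtraspecial_of {E : Type*} [Group E] [Finite E] {z : E} (hz1 : z ≠ 1)
    (hzz : z * z = 1) (hcomm : ∀ a b : E, a * b * a⁻¹ * b⁻¹ = 1 ∨ a * b * a⁻¹ * b⁻¹ = z)
    (hzc : ∀ a : E, Commute a z) (hcent : ∀ c : E, (∀ a, Commute a c) → c = 1 ∨ c = z)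
    (hne : ∃ r : E, r ≠ 1 ∧ r ≠ z) (h2 : IsPGroup 2 E) : Cfsg.IsExtraspecial 2 E := by
  have : Fact (Nat.Prime 2) := ⟨Nat.prime_two⟩
  have hcenter : ∀ c : E, c ∈ Subgroup.center E ↔ c = 1 ∨ c = z := by
    intro c
    rw [Subgroup.mem_center_iff]
    constructor
    · intro h
      exact hcent c h
    · rintro (rfl | rfl)
      · intro g; simp
      · exact hzc
  have hord : orderOf z = 2 := orderOf_eq_prime (by rw [sq]; exact hzz) hz1
  have hcz : Subgroup.center E = Subgroup.zpowers z := by
    ext c
    rw [hcenter]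
    constructor
    · rintro (rfl | rfl)
      · exact one_mem _
      · exact Subgroup.mem_zpowers _
    · exact mem_zpowers_of_orderOf_two hord
  have hcard : Nat.card (Subgroup.center E) = 2 := by
    rw [hcz, Nat.card_zpowers, hord]
  have hnoncomm : ∀ x : E, x ∉ Subgroup.center E → ∃ b : E, b * x * b⁻¹ = z * x := by
    intro x hx
    by_contra hcon
    push Not at hcon
    apply hx
    rw [Subgroup.mem_center_iff]
    intro b
    rcases hcomm b x with h1 | h1
    · calc b * x = (b * x * b⁻¹ * x⁻¹) * (x * b) := by group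
        _ = x * b := by rw [h1, one_mul]
    · exfalso
      apply hcon b
      calc b * x * b⁻¹ = (b * x * b⁻¹ * x⁻¹) * x := by group
        _ = z * x := by rw [h1]
  have hcomm_eq : commutator E = Subgroup.center E := by
    apply le_antisymm
    · rw [commutator_def, Subgroup.commutator_le]
      intro a _ b _
      rw [hcenter, commutatorElement_def]
      exact hcomm a b
    · obtain ⟨r, hr1, hrz⟩ := hne
      have hr : r ∉ Subgroup.center E := by
        rw [hcenter]; push Not; exact ⟨hr1, hrz⟩
      obtain ⟨b, hb⟩ := hnoncomm r hr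
      have hzmem : z ∈ commutator E := by
        have h1 : ⁅b, r⁆ ∈ commutator E :=
          Subgroup.commutator_mem_commutator (Subgroup.mem_top _) (Subgroup.mem_top _)
        have h2 : ⁅b, r⁆ = z := by
          rw [commutatorElement_def, hb]; group
        rwa [h2] at h1
      intro c hc
      rcases (hcenter c).1 hc with rfl | rfl
      · exact one_mem _
      · exact hzmem
  refine ⟨⟨h2, ?_, hcomm_eq⟩, hcard⟩
  apply le_antisymm
  · intro x hx
    by_contra hxc
    obtain ⟨b, hb⟩ := hnoncomm x hxc
    have hzinv : z⁻¹ = z := inv_eq_of_mul_eq_one_left hzz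
    -- `x b x⁻¹ = z b`
    have hxb : x * b * x⁻¹ = z * b := by
      have h1 : b * x = z * x * b := by
        calc b * x = (b * x * b⁻¹) * b := by group
          _ = z * x * b := by rw [hb]
      calc x * b * x⁻¹ = (z * z) * x * b * x⁻¹ := by rw [hzz, one_mul]
        _ = z * (z * x * b) * x⁻¹ := by group
        _ = z * (b * x) * x⁻¹ := by rw [← h1]
        _ = z * b := by group
    have hxM : x ∉ Subgroup.centralizer ({b} : Set E) := by
      rw [Subgroup.mem_centralizer_singleton_iff]
      intro h
      have h1 : x * b * x⁻¹ = b := mul_inv_eq_iff_eq_mul.2 h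
      rw [hxb] at h1
      exact hz1 (by simpa using h1)
    have hco : IsCoatom (Subgroup.centralizer ({b} : Set E)) := by
      refine ⟨fun h => hxM (h ▸ Subgroup.mem_top x), ?_⟩
      intro K hK
      obtain ⟨hle, k, hkK, hkM⟩ := SetLike.lt_iff_le_and_exists.1 hK
      have hkb : k * b * k⁻¹ = z * b := by
        rcases hcomm k b with h1 | h1
        · exfalso
          apply hkM
          rw [Subgroup.mem_centralizer_singleton_iff]
          calc k * b = (k * b * k⁻¹ * b⁻¹) * (b * k) := by group
            _ = b * k := by rw [h1, one_mul]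
        · calc k * b * k⁻¹ = (k * b * k⁻¹ * b⁻¹) * b := by group
            _ = z * b := by rw [h1]
      rw [eq_top_iff]
      intro y _
      rcases hcomm y b with h1 | h1
      · apply hle
        rw [Subgroup.mem_centralizer_singleton_iff]
        calc y * b = (y * b * y⁻¹ * b⁻¹) * (b * y) := by group
          _ = b * y := by rw [h1, one_mul]
      · have hyb : y * b * y⁻¹ = z * b := by
          calc y * b * y⁻¹ = (y * b * y⁻¹ * b⁻¹) * b := by group
            _ = z * b := by rw [h1]
        have h3 : k⁻¹ * y ∈ Subgroup.centralizer ({b} : Set E) := by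
          rw [Subgroup.mem_centralizer_singleton_iff]
          apply mul_inv_eq_iff_eq_mul.1
          calc k⁻¹ * y * b * (k⁻¹ * y)⁻¹ = k⁻¹ * (y * b * y⁻¹) * k := by group
            _ = k⁻¹ * (k * b * k⁻¹) * k := by rw [hyb, hkb]
            _ = b := by group
        have h4 := K.mul_mem hkK (hle h3)
        rwa [mul_inv_cancel_left] at h4
    exact hxM (frattini_le_coatom hco hx)
  · rw [← hcomm_eq]
    exact Cfsg.Agent.Lib.Helper3.commutator_le_frattini h2

/-- subgroup version -/
theorem isExtraspecial_of_sub {G : Type*} [Group G] [Finite G] {R : Subgroup G} {z : G}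
    (hzR : z ∈ R) (hz1 : z ≠ 1) (hzz : z * z = 1)
    (hcomm : ∀ a ∈ R, ∀ b ∈ R, a * b * a⁻¹ * b⁻¹ = 1 ∨ a * b * a⁻¹ * b⁻¹ = z)
    (hzc : ∀ a ∈ R, Commute a z) (hcent : ∀ c ∈ R, (∀ a ∈ R, Commute a c) → c = 1 ∨ c = z)
    (hne : ∃ r ∈ R, r ≠ 1 ∧ r ≠ z) (h2 : IsPGroup 2 R) : Cfsg.IsExtraspecial 2 R := by
  apply isExtraspecial_of (z := (⟨z, hzR⟩ : R))
  · intro h; exact hz1 (congrArg Subtype.val h)
  · exact Subtype.ext hzz
  · intro a b
    rcases hcomm a a.2 b b.2 with h | h
    · left; exact Subtype.ext h
    · right; exact Subtype.ext h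
  · intro a; exact Subtype.ext (hzc a a.2)
  · intro c hc
    rcases hcent c c.2 (fun a ha => congrArg Subtype.val (hc ⟨a, ha⟩)) with h | h
    · left; exact Subtype.ext h
    · right; exact Subtype.ext h
  · obtain ⟨r, hr, h1, h3⟩ := hne
    exact ⟨⟨r, hr⟩, fun h => h1 (congrArg Subtype.val h), fun h => h3 (congrArg Subtype.val h)⟩
  · exact h2

end Cfsg.Agent.Lib.Helper92
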