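import Mathlib
import Cfsg.Agent.Lib.Helper92.Basic

set_option autoImplicit false

namespace Cfsg.Agent.Lib.Helper92

variable {G : Type*} [Group G]

/-- If the generators `s ∈ S` conjugate `E` into itself (both ways) and `[s, c] ∈ E`, then
`[x, c] ∈ E` for all `x` in the closure of `S`. -/
theorem comm_mem_closure_left {E : Subgroup G} {S : Set G} {c : G}
    (hN : ∀ s ∈ S, s ∈ Subgroup.normalizer (E : Set G))
    (h : ∀ s ∈ S, s * c * s⁻¹ * c⁻¹ ∈ E) :
    ∀ x ∈ Subgroup.closure S, x * c * x⁻¹ * c⁻¹ ∈ E := by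
  have hle : Subgroup.closure S ≤ Subgroup.normalizer (E : Set G) :=
    (Subgroup.closure_le _).2 hN
  intro x hx
  induction hx using Subgroup.closure_induction with
  | mem x hx => exact h x hx
  | one => simp
  | mul x y hx hy ihx ihy =>
    have h1 : x * (y * c * y⁻¹ * c⁻¹) * x⁻¹ ∈ E :=
      (Subgroup.mem_normalizer_iff.1 (hle hx) _).1 ihy
    have e : x * y * c * (x * y)⁻¹ * c⁻¹ = x * (y * c * y⁻¹ * c⁻¹) * x⁻¹ * (x * c * x⁻¹ * c⁻¹) := by
      group
    rw [e]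
    exact E.mul_mem h1 ihx
  | inv x hx ihx =>
    have h1 : x⁻¹ * (x * c * x⁻¹ * c⁻¹)⁻¹ * x ∈ E :=
      (Subgroup.mem_normalizer_iff''.1 (hle hx) _).1 (E.inv_mem ihx)
    have e : x⁻¹ * c * x⁻¹⁻¹ * c⁻¹ = x⁻¹ * (x * c * x⁻¹ * c⁻¹)⁻¹ * x := by group
    rw [e]
    exact h1

theorem comm_mem_symm {E : Subgroup G} {a b : G} (h : a * b * a⁻¹ * b⁻¹ ∈ E) :
    b * a * b⁻¹ * a⁻¹ ∈ E := by
  have e : b * a * b⁻¹ * a⁻¹ = (a * b * a⁻¹ * b⁻¹)⁻¹ := by group
  rw [e]
  exact E.inv_mem h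

/-- Two-sided version. -/
theorem comm_mem_closure {E : Subgroup G} {S T : Set G}
    (hS : ∀ s ∈ S, s ∈ Subgroup.normalizer (E : Set G))
    (hT : ∀ t ∈ T, t ∈ Subgroup.normalizer (E : Set G))
    (h : ∀ s ∈ S, ∀ t ∈ T, s * t * s⁻¹ * t⁻¹ ∈ E) :
    ∀ x ∈ Subgroup.closure S, ∀ y ∈ Subgroup.closure T, x * y * x⁻¹ * y⁻¹ ∈ E := by
  intro x hx y hy
  apply comm_mem_symm
  refine comm_mem_closure_left hT ?_ y hy
  intro t ht
  apply comm_mem_symm
  exact comm_mem_closure_left hS (fun s hs => h s hs t ht) x hx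

/-- If commutators of a closure lie in `E` and generators have squares in `E`, all squares
lie in `E`. -/
theorem sq_mem_closure {E : Subgroup G} {S : Set G}
    (hc : ∀ x ∈ Subgroup.closure S, ∀ y ∈ Subgroup.closure S, x * y * x⁻¹ * y⁻¹ ∈ E)
    (h : ∀ s ∈ S, s * s ∈ E) :
    ∀ x ∈ Subgroup.closure S, x * x ∈ E := by
  intro x hx
  induction hx using Subgroup.closure_induction with
  | mem x hx => exact h x hx
  | one => simp
  | mul x y hx hy ihx ihy =>
    have h1 := hc x⁻¹ (inv_mem hx) y hy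
    have e : x * y * (x * y) = (x * x) * (x⁻¹ * y * x⁻¹⁻¹ * y⁻¹) * (y * y) := by group
    rw [e]
    exact E.mul_mem (E.mul_mem ihx h1) ihy
  | inv x hx ihx =>
    have e : x⁻¹ * x⁻¹ = (x * x)⁻¹ := by group
    rw [e]
    exact E.inv_mem ihx

theorem sup_eq_closure_union (A B : Subgroup G) :
    A ⊔ B = Subgroup.closure ((A : Set G) ∪ (B : Set G)) := by
  rw [Subgroup.closure_union, Subgroup.closure_eq, Subgroup.closure_eq]

end Cfsg.Agent.Lib.Helper92
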