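import Mathlib
import Cfsg.Agent.Lib.Helper92.Basic

set_option autoImplicit false

namespace Cfsg.Agent.Lib.Helper92

variable {G : Type*} [Group G]

theorem sylow_conj [Finite G] {p : ℕ} [Fact p.Prime] (T₁ T₂ : Sylow p G) :
    ∃ c : G, ∀ t ∈ T₁, c * t * c⁻¹ ∈ T₂ := by
  obtain ⟨c, hc⟩ := MulAction.exists_smul_eq G T₁ T₂
  refine ⟨c, fun t ht => ?_⟩
  rw [← hc]
  show c * t * c⁻¹ ∈ ((c • T₁ : Sylow p G) : Subgroup G)
  rw [Sylow.coe_subgroup_smul]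
  exact Subgroup.smul_mem_pointwise_smul t (MulAut.conj c) _ ht

theorem exists_conj_mem_sylow [Finite G] {p : ℕ} [Fact p.Prime] (P : Sylow p G) {T : Subgroup G}
    (hT : IsPGroup p T) : ∃ c : G, ∀ t ∈ T, c * t * c⁻¹ ∈ P := by
  obtain ⟨P', hP'⟩ := hT.exists_le_sylow
  obtain ⟨c, hc⟩ := sylow_conj P' P
  exact ⟨c, fun t ht => hc t (hP' ht)⟩

theorem isPGroup_zpowers_of_orderOf {p k : ℕ} {x : G} (hx : orderOf x = p ^ k) :
    IsPGroup p (Subgroup.zpowers x) := by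
  rintro ⟨y, hy⟩
  refine ⟨k, Subtype.ext ?_⟩
  obtain ⟨m, rfl⟩ := hy
  show (x ^ m) ^ p ^ k = 1
  rw [← zpow_natCast, ← zpow_mul, mul_comm, zpow_mul, zpow_natCast, ← hx, pow_orderOf_eq_one,
    one_zpow]

/-- version inside a subgroup `H` containing the Sylow subgroup `P` -/
theorem exists_conj_mem_sylow_of_le [Finite G] {p : ℕ} [Fact p.Prime] (P : Sylow p G)
    {H T : Subgroup G} (hPH : (P : Subgroup G) ≤ H) (hT : IsPGroup p T) (hTH : T ≤ H) :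
    ∃ c ∈ H, ∀ t ∈ T, c * t * c⁻¹ ∈ P := by
  have hT' : IsPGroup p (T.subgroupOf H) := hT.comap_subtype
  obtain ⟨c, hc⟩ := exists_conj_mem_sylow (P.subtype hPH) hT'
  refine ⟨c, c.2, fun t ht => ?_⟩
  have := hc ⟨t, hTH ht⟩ (by simpa [Subgroup.mem_subgroupOf] using ht)
  have h2 : c * ⟨t, hTH ht⟩ * c⁻¹ ∈ (P : Subgroup G).subgroupOf H := this
  rw [Subgroup.mem_subgroupOf] at h2
  exact h2

end Cfsg.Agent.Lib.Helper92
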