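import Mathlib
import Cfsg.Agent.Lib.Helper92.ESPair
import Cfsg.Agent.Lib.Helper92.SylowConj
import Cfsg.Agent.Lib.Helper36.GF2Type
import Cfsg.Agent.Lib.Helper3.PGroup

set_option autoImplicit false

namespace Cfsg.Agent.Lib.Helper92

universe u

variable {G : Type u} [Group G]

/-- If `F*(C_G(z)) = Q` is extraspecial (`z` an involution), then `Q` satisfies the first three
conditions of a large extraspecial subgroup, with centre generated by `z`. -/
theorem es_of_fstar [Finite G] (z : G) (hz : orderOf z = 2) (Q : Subgroup G)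
    (hF : (Cfsg.generalizedFittingSubgroup ↥(Subgroup.centralizer ({z} : Set G))).map
      (Subgroup.centralizer ({z} : Set G)).subtype = Q) (hQ : Cfsg.IsExtraspecial 2 ↥Q) :
    Subgroup.centralizer (Q : Set G) = ((Subgroup.center ↥Q).map Q.subtype) ∧
    Subgroup.centralizer (((Subgroup.center ↥Q).map Q.subtype) : Set G) ≤
      Subgroup.normalizer (Q : Set G) ∧
    ((Subgroup.center ↥Q).map Q.subtype) = Subgroup.zpowers z ∧ ESData Q z ∧
    (∀ x ∈ ZZ Q, x = 1 ∨ x = z) := by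
  have hzQ : z ∈ Q := hF ▸ Cfsg.Agent.Lib.Helper36.z_mem_QQ z hz
  have hQC : Q ≤ Subgroup.centralizer ({z} : Set G) := hF ▸ Cfsg.Agent.Lib.Helper36.QQ_le_CC z
  have hCQ : Subgroup.centralizer (Q : Set G) ≤ Q := by
    have := Cfsg.Agent.Lib.Helper36.centralizer_QQ_le z hz
    rwa [Cfsg.Agent.Lib.Helper36.QQ, Cfsg.Agent.Lib.Helper36.FsC, Cfsg.Agent.Lib.Helper36.CC,
      hF] at this
  have hzZ : z ∈ ZZ Q := by
    rw [mem_ZZ_iff]
    exact ⟨hzQ, fun a ha => Subgroup.mem_centralizer_singleton_iff.1 (hQC ha)⟩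
  have hz1 : z ≠ 1 := by
    intro h
    rw [h, orderOf_one] at hz
    omega
  obtain ⟨z', hz'Z, hz'1, -, hz'all, -⟩ := exists_gen_of_card_two _ (card_ZZ hQ)
  have hzz' : z = z' := by
    rcases hz'all z hzZ with h1 | h1
    · exact absurd h1 hz1
    · exact h1
  subst hzz'
  have hL2 : Subgroup.centralizer (Q : Set G) = ((Subgroup.center ↥Q).map Q.subtype) := by
    ext c
    show _ ↔ c ∈ ZZ Q
    rw [mem_ZZ_iff, Subgroup.mem_centralizer_iff]
    constructor
    · intro hc
      exact ⟨hCQ (Subgroup.mem_centralizer_iff.2 hc), fun a ha => hc a ha⟩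
    · rintro ⟨-, hc⟩ a ha
      exact hc a ha
  have hL3 : Subgroup.centralizer (((Subgroup.center ↥Q).map Q.subtype) : Set G) ≤
      Subgroup.normalizer (Q : Set G) := by
    apply le_normalizer_of_conj_mem
    intro c hc a ha
    have hcC : c ∈ Subgroup.centralizer ({z} : Set G) := by
      rw [Subgroup.mem_centralizer_singleton_iff]
      exact ((Subgroup.mem_centralizer_iff.1 hc) z hzZ).symm
    have := Cfsg.Agent.Lib.Helper36.conj_mem_QQ z hcC (q := a) (by
      rw [Cfsg.Agent.Lib.Helper36.QQ, Cfsg.Agent.Lib.Helper36.FsC, Cfsg.Agent.Lib.Helper36.CC,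
        hF]; exact ha)
    rwa [Cfsg.Agent.Lib.Helper36.QQ, Cfsg.Agent.Lib.Helper36.FsC, Cfsg.Agent.Lib.Helper36.CC,
      hF] at this
  refine ⟨hL2, hL3, ?_, ESData.of hQ hL2 hL3 hzZ hz1 hz hz'all, hz'all⟩
  ext c
  constructor
  · intro hc
    rcases hz'all c hc with rfl | rfl
    · exact one_mem _
    · exact Subgroup.mem_zpowers _
  · intro hc
    rcases mem_zpowers_of_orderOf_two hz hc with rfl | rfl
    · exact one_mem _
    · exact hzZ

/-- Simplicity criterion: `Q` large extraspecial with centre `⟨z⟩`, and every normal subgroup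
containing `z` contains `C_G(z)`. -/
theorem isSimpleGroup_of_large [Finite G] {Q : Subgroup G} {z : G} (h : ESData Q z)
    (hlarge : ∀ K : Subgroup G, Odd (Nat.card K) → Q ≤ Subgroup.normalizer (K : Set G) → K = ⊥)
    (hgen : ∀ N : Subgroup G, N.Normal → z ∈ N → Subgroup.centralizer ({z} : Set G) ≤ N) :
    IsSimpleGroup G := by
  have : Fact (Nat.Prime 2) := ⟨Nat.prime_two⟩
  have hnt : Nontrivial G := ⟨⟨z, 1, h.z1⟩⟩
  refine ⟨fun N hN => ?_⟩
  by_cases hbot : N = ⊥
  · exact Or.inl hbot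
  right
  obtain ⟨T, hQT⟩ := h.two.exists_le_sylow
  have hZT : ∀ c : G, (∀ t ∈ T, Commute t c) → c = 1 ∨ c = z :=
    fun c hc => h.cent c (fun a ha => hc a (hQT ha))
  -- `N` meets `T`
  have hNT : N.subgroupOf (T : Subgroup G) ≠ ⊥ := by
    intro hcon
    apply hbot
    apply hlarge N _ (by rw [Subgroup.normalizer_eq_top]; exact le_top)
    rw [← Nat.not_even_iff_odd]
    intro heven
    obtain ⟨x, hx⟩ := exists_prime_orderOf_dvd_card' (G := N) 2 heven.two_dvd
    have hx' : orderOf (x : G) = 2 ^ 1 := by rw [Subgroup.orderOf_coe, hx, pow_one]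
    obtain ⟨c, hc⟩ := exists_conj_mem_sylow T (isPGroup_zpowers_of_orderOf hx')
    have h1 := hc x (Subgroup.mem_zpowers _)
    have h2 : (⟨c * x * c⁻¹, h1⟩ : (T : Subgroup G)) ∈ N.subgroupOf (T : Subgroup G) := by
      rw [Subgroup.mem_subgroupOf]
      exact hN.conj_mem x x.2 c
    rw [hcon, Subgroup.mem_bot] at h2
    have h3 : c * x * c⁻¹ = 1 := congrArg Subtype.val h2
    have h4 : (x : G) = 1 := by
      calc (x : G) = c⁻¹ * (c * x * c⁻¹) * c := by group
        _ = 1 := by rw [h3]; group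
    rw [h4, orderOf_one] at hx'
    omega
  have hnorm : (N.subgroupOf (T : Subgroup G)).Normal := inferInstance
  have h5 := Cfsg.Agent.Lib.Helper3.normal_inf_center_ne_bot' T.2 _ hNT
  obtain ⟨⟨c, hc⟩, hc1⟩ := Subgroup.ne_bot_iff_exists_ne_one.1 h5
  rw [Subgroup.mem_inf, Subgroup.mem_subgroupOf, Subgroup.mem_center_iff] at hc
  have hc1' : (c : G) ≠ 1 := fun h1 => hc1 (Subtype.ext (Subtype.ext h1))
  have hcz : (c : G) = z := by
    rcases hZT c (fun t ht => congrArg Subtype.val (hc.2 ⟨t, ht⟩)) with h1 | h1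
    · exact absurd h1 hc1'
    · exact h1
  have hzN : z ∈ N := hcz ▸ hc.1
  have hzT : z ∈ T := hcz ▸ c.2
  have hzcT : ∀ t ∈ T, Commute t z := by
    intro t ht
    rw [← hcz]
    exact congrArg Subtype.val (hc.2 ⟨t, ht⟩)
  have hCN := hgen N hN hzN
  have hTN : (T : Subgroup G) ≤ N := fun t ht =>
    hCN (Subgroup.mem_centralizer_singleton_iff.2 (hzcT t ht))
  have hfr := Sylow.normalizer_sup_eq_top' T hTN
  rw [eq_top_iff, ← hfr]
  apply sup_le _ le_rfl
  intro n hn
  apply hCN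
  rw [Subgroup.mem_centralizer_singleton_iff]
  apply (commute_of_conj_eq _).eq
  have h6 : ∀ t ∈ T, Commute t (n * z * n⁻¹) := by
    intro t ht
    have h7 : n⁻¹ * t * n ∈ (T : Subgroup G) := (Subgroup.mem_normalizer_iff''.1 hn t).1 ht
    have h8 := hzcT _ h7
    show t * (n * z * n⁻¹) = n * z * n⁻¹ * t
    calc t * (n * z * n⁻¹) = n * ((n⁻¹ * t * n) * z) * n⁻¹ := by group
      _ = n * (z * (n⁻¹ * t * n)) * n⁻¹ := by rw [h8.eq]
      _ = n * z * n⁻¹ * t := by group
  rcases hZT _ h6 with h7 | h7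
  · exfalso
    apply h.z1
    calc z = n⁻¹ * (n * z * n⁻¹) * n := by group
      _ = 1 := by rw [h7]; group
  · exact h7

end Cfsg.Agent.Lib.Helper92
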