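import Mathlib
import Cfsg.Agent.Lib.Helper92.Basic

set_option autoImplicit false

namespace Cfsg.Agent.Lib.Helper92

variable {G : Type*} [Group G]

theorem mem_normalizer_of_conj_mem [Finite G] {H : Subgroup G} {q : G}
    (h : ∀ v ∈ H, q * v * q⁻¹ ∈ H) : q ∈ Subgroup.normalizer (H : Set G) := by
  rw [Subgroup.mem_normalizer_iff]
  intro v
  refine ⟨h v, fun hv => ?_⟩
  let f : H → H := fun v => ⟨q * v * q⁻¹, h v v.2⟩
  have hinj : Function.Injective f := fun a b hab => by
    have : q * a * q⁻¹ = q * b * q⁻¹ := congrArg Subtype.val hab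
    exact Subtype.ext (by simpa using this)
  obtain ⟨w, hw⟩ := Finite.surjective_of_injective hinj ⟨_, hv⟩
  have h1 : q * w * q⁻¹ = q * v * q⁻¹ := congrArg Subtype.val hw
  have h2 : (w : G) = v := by simpa using h1
  rw [← h2]; exact w.2

/-- the four-group generated by two commuting involutions -/
def fourGroup (z s : G) (hzz : z * z = 1) (hss : s * s = 1) (hc : Commute z s) : Subgroup G where
  carrier := {x | x = 1 ∨ x = z ∨ x = s ∨ x = z * s}
  one_mem' := Or.inl rfl
  mul_mem' := by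
    have e2 : s * z = z * s := hc.eq.symm
    have e1 : z * (z * s) = s := by rw [← mul_assoc, hzz, one_mul]
    have e3 : s * (z * s) = z := by rw [← mul_assoc, e2, mul_assoc, hss, mul_one]
    have e4 : z * s * z = s := by rw [mul_assoc, e2, e1]
    have e5 : z * s * s = z := by rw [mul_assoc, hss, mul_one]
    have e6 : z * s * (z * s) = 1 := by rw [mul_assoc, e3, hzz]
    rintro a b (rfl | rfl | rfl | rfl) (rfl | rfl | rfl | rfl) <;>
      simp [hzz, hss, e1, e2, e3, e4, e5, e6]
  inv_mem' := by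
    have hzi : z⁻¹ = z := inv_eq_of_mul_eq_one_left hzz
    have hsi : s⁻¹ = s := inv_eq_of_mul_eq_one_left hss
    rintro a (rfl | rfl | rfl | rfl)
    · simp
    · simp [hzi]
    · simp [hsi]
    · right; right; right
      rw [mul_inv_rev, hzi, hsi, hc.eq]

theorem mem_fourGroup {z s : G} {hzz : z * z = 1} {hss : s * s = 1} {hc : Commute z s} {x : G} :
    x ∈ fourGroup z s hzz hss hc ↔ x = 1 ∨ x = z ∨ x = s ∨ x = z * s := Iff.rfl

theorem relIndex_eq_six [Finite G] {V : Subgroup G} {z s q x : G}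
    (hV : ∀ v, v ∈ V ↔ v = 1 ∨ v = z ∨ v = s ∨ v = z * s)
    (hz1 : z ≠ 1) (hs1 : s ≠ 1) (hzs : z ≠ s) (hzz : z * z = 1)
    (hqz : q * z * q⁻¹ = z) (hqs : q * s * q⁻¹ = z * s)
    (hxs : x * s * x⁻¹ = s) (hxz : x * z * x⁻¹ = z * s) :
    (Subgroup.centralizer (V : Set G)).relIndex (Subgroup.normalizer (V : Set G)) = 6 := by
  classical
  have hzV : z ∈ V := (hV z).2 (Or.inr (Or.inl rfl))
  have hsV : s ∈ V := (hV s).2 (Or.inr (Or.inr (Or.inl rfl)))
  have hzsV : z * s ∈ V := (hV _).2 (Or.inr (Or.inr (Or.inr rfl)))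
  have hzs1 : z * s ≠ 1 := by
    intro h
    apply hzs
    calc z = z * (z * s) := by rw [h, mul_one]
      _ = (z * z) * s := by group
      _ = s := by rw [hzz, one_mul]
  have hzsz : z * s ≠ z := by
    intro h
    apply hs1
    calc s = z⁻¹ * (z * s) := by group
      _ = 1 := by rw [h]; group
  have hzss : z * s ≠ s := by
    intro h
    apply hz1
    calc z = (z * s) * s⁻¹ := by group
      _ = 1 := by rw [h]; group
  have hqzs : q * (z * s) * q⁻¹ = s := by
    calc q * (z * s) * q⁻¹ = (q * z * q⁻¹) * (q * s * q⁻¹) := by group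
      _ = z * (z * s) := by rw [hqz, hqs]
      _ = (z * z) * s := by group
      _ = s := by rw [hzz, one_mul]
  have hxzs : x * (z * s) * x⁻¹ = z * s * s := by
    calc x * (z * s) * x⁻¹ = (x * z * x⁻¹) * (x * s * x⁻¹) := by group
      _ = z * s * s := by rw [hxz, hxs]
  have hqN : q ∈ Subgroup.normalizer (V : Set G) := by
    apply mem_normalizer_of_conj_mem
    intro v hv
    rcases (hV v).1 hv with rfl | rfl | rfl | rfl
    · simp
    · rw [hqz]; exact hzV
    · rw [hqs]; exact hzsV
    · rw [hqzs]; exact hsV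
  have hxN : x ∈ Subgroup.normalizer (V : Set G) := by
    apply mem_normalizer_of_conj_mem
    intro v hv
    rcases (hV v).1 hv with rfl | rfl | rfl | rfl
    · simp
    · rw [hxz]; exact hzsV
    · rw [hxs]; exact hsV
    · rw [hxzs]; exact V.mul_mem hzsV hsV
  let X : Type _ := {v : G // v ∈ V ∧ v ≠ 1}
  let act : MulAction (Subgroup.normalizer (V : Set G)) X :=
    { smul := fun n v => ⟨(n : G) * v.1 * (n : G)⁻¹,
        (Subgroup.mem_normalizer_iff.1 n.2 v.1).1 v.2.1, fun h => v.2.2 (by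
          have : v.1 = (n : G)⁻¹ * ((n : G) * v.1 * (n : G)⁻¹) * (n : G) := by group
          rw [this, h]; group)⟩
      one_smul := fun v => Subtype.ext (by
        show ((1 : Subgroup.normalizer (V : Set G)) : G) * v.1 *
          ((1 : Subgroup.normalizer (V : Set G)) : G)⁻¹ = v.1
        simp)
      mul_smul := fun a b v => Subtype.ext (by
        show ((a * b : Subgroup.normalizer (V : Set G)) : G) * v.1 *
          ((a * b : Subgroup.normalizer (V : Set G)) : G)⁻¹ =
          (a : G) * ((b : G) * v.1 * (b : G)⁻¹) * (a : G)⁻¹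
        simp [mul_assoc]) }
  have hsmul : ∀ (n : Subgroup.normalizer (V : Set G)) (v : X),
      ((n • v : X) : G) = (n : G) * v.1 * (n : G)⁻¹ := fun _ _ => rfl
  have hXcard : Nat.card X = 3 := by
    have hset : {v : G | v ∈ V ∧ v ≠ 1} = {z, s, z * s} := by
      ext v
      simp only [Set.mem_ofPred_eq, Set.mem_insert_iff, Set.mem_singleton_iff, hV]
      constructor
      · rintro ⟨h1 | h1, h2⟩
        · exact absurd h1 h2
        · exact h1
      · rintro (rfl | rfl | rfl)
        · exact ⟨Or.inr (Or.inl rfl), hz1⟩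
        · exact ⟨Or.inr (Or.inr (Or.inl rfl)), hs1⟩
        · exact ⟨Or.inr (Or.inr (Or.inr rfl)), hzs1⟩
    show Nat.card {v : G // v ∈ V ∧ v ≠ 1} = 3
    have h1 : Nat.card {v : G // v ∈ V ∧ v ≠ 1} = Set.ncard {v : G | v ∈ V ∧ v ≠ 1} := rfl
    rw [h1, hset]
    rw [Set.ncard_eq_toFinset_card']
    have : ({z, s, z * s} : Set G).toFinset = {z, s, z * s} := by
      ext; simp
    rw [this]
    rw [Finset.card_insert_of_notMem, Finset.card_insert_of_notMem, Finset.card_singleton]
    · simpa using hzss.symm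
    · simp only [Finset.mem_insert, Finset.mem_singleton, not_or]
      exact ⟨hzs, hzsz.symm⟩
  have hker : (MulAction.toPermHom (Subgroup.normalizer (V : Set G)) X).ker =
      (Subgroup.centralizer (V : Set G)).subgroupOf (Subgroup.normalizer (V : Set G)) := by
    ext n
    rw [MonoidHom.mem_ker, Subgroup.mem_subgroupOf, Subgroup.mem_centralizer_iff]
    constructor
    · intro h v hv
      by_cases hv1 : v = 1
      · subst hv1; simp
      · have h1 : n • (⟨v, hv, hv1⟩ : X) = ⟨v, hv, hv1⟩ := by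
          have := congrArg (fun σ : Equiv.Perm X => σ ⟨v, hv, hv1⟩) h
          simpa using this
        have h2 : (n : G) * v * (n : G)⁻¹ = v := congrArg Subtype.val h1
        exact (mul_inv_eq_iff_eq_mul.1 h2).symm
    · intro h
      ext v
      show ((n • v : X) : G) = v.1
      rw [hsmul]
      exact mul_inv_eq_iff_eq_mul.2 (h v.1 v.2.1).symm
  rw [Subgroup.relIndex, ← hker, Subgroup.index_ker]
  set F := MulAction.toPermHom (Subgroup.normalizer (V : Set G)) X with hF
  have hdvd : Nat.card F.range ∣ 6 := by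
    have h1 := Subgroup.card_subgroup_dvd_card F.range
    rw [Nat.card_perm, hXcard] at h1
    exact h1
  have haz : ((F ⟨q, hqN⟩) ⟨z, hzV, hz1⟩ : X).1 = z := hqz
  have has : ((F ⟨q, hqN⟩) ⟨s, hsV, hs1⟩ : X).1 = z * s := hqs
  have hbz : ((F ⟨x, hxN⟩) ⟨z, hzV, hz1⟩ : X).1 = z * s := hxz
  have ha1 : F ⟨q, hqN⟩ ≠ 1 := by
    intro h
    rw [h] at has
    exact hzss has.symm
  have hb1 : F ⟨x, hxN⟩ ≠ 1 := by
    intro h
    rw [h] at hbz
    exact hzsz hbz.symm
  have hab : F ⟨q, hqN⟩ ≠ F ⟨x, hxN⟩ := by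
    intro h
    rw [h, hbz] at haz
    exact hzsz haz
  have haa : F ⟨q, hqN⟩ * F ⟨q, hqN⟩ = 1 := by
    rw [← map_mul, ← MonoidHom.mem_ker, hker, Subgroup.mem_subgroupOf,
      Subgroup.mem_centralizer_iff]
    intro v hv
    show v * (q * q) = q * q * v
    have key : ∀ v, q * (q * v * q⁻¹) * q⁻¹ = v → v * (q * q) = q * q * v := by
      intro v h
      calc v * (q * q) = (q * (q * v * q⁻¹) * q⁻¹) * (q * q) := by rw [h]
        _ = q * q * v := by group
    apply key
    rcases (hV v).1 hv with rfl | rfl | rfl | rfl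
    · group
    · rw [hqz, hqz]
    · rw [hqs, hqzs]
    · rw [hqzs, hqs]
  have hamem : F ⟨q, hqN⟩ ∈ F.range := MonoidHom.mem_range.2 ⟨_, rfl⟩
  have hbmem : F ⟨x, hxN⟩ ∈ F.range := MonoidHom.mem_range.2 ⟨_, rfl⟩
  have h2dvd : 2 ∣ Nat.card F.range := by
    have h1 : orderOf (⟨F ⟨q, hqN⟩, hamem⟩ : F.range) = 2 := by
      rw [Subgroup.orderOf_mk]
      apply orderOf_eq_prime
      · rw [sq]; exact haa
      · exact ha1
    rw [← h1]
    exact orderOf_dvd_natCard _
  have hne2 : Nat.card F.range ≠ 2 := by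
    intro h
    obtain ⟨t, -, -, -, hall, -⟩ := exists_gen_of_card_two F.range h
    rcases hall (F ⟨q, hqN⟩) hamem with h1 | h1
    · exact ha1 h1
    · rcases hall (F ⟨x, hxN⟩) hbmem with h2 | h2
      · exact hb1 h2
      · exact hab (h1.trans h2.symm)
  have hle : Nat.card F.range ≤ 6 := Nat.le_of_dvd (by norm_num) hdvd
  generalize Nat.card F.range = n at *
  interval_cases n <;> omega

end Cfsg.Agent.Lib.Helper92
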