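import Mathlib
import Cfsg.Agent.Lib.Helper92.ESPair
import Cfsg.Agent.Lib.Helper92.ESSub
import Cfsg.Agent.Lib.Helper92.Conj
import Cfsg.Agent.S5427

set_option autoImplicit false

namespace Cfsg.Agent.Lib.Helper92

variable {G : Type*} [Group G] {Q : Subgroup G} {z : G}

theorem ESData.mem_ZZ (h : ESData Q z) {x : G} : x ∈ ZZ Q ↔ x = 1 ∨ x = z := by
  rw [mem_ZZ_iff]
  constructor
  · rintro ⟨-, hx⟩
    exact h.cent x hx
  · rintro (rfl | rfl)
    · exact ⟨one_mem _, fun q _ => by simp⟩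
    · exact ⟨h.zQ, h.zc⟩

theorem ESData.L2 (h : ESData Q z) :
    Subgroup.centralizer (Q : Set G) = ((Subgroup.center ↥Q).map Q.subtype) := by
  ext c
  show _ ↔ c ∈ ZZ Q
  rw [h.mem_ZZ, Subgroup.mem_centralizer_iff]
  constructor
  · intro hc
    exact h.cent c hc
  · rintro (rfl | rfl)
    · intro a _; simp
    · exact h.zc

theorem ESData.L3 (h : ESData Q z) :
    Subgroup.centralizer (((Subgroup.center ↥Q).map Q.subtype) : Set G) ≤
      Subgroup.normalizer (Q : Set G) := by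
  apply le_normalizer_of_conj_mem
  intro c hc a ha
  apply h.norm c _ a ha
  exact ((Subgroup.mem_centralizer_iff.1 hc) z (h.mem_ZZ.2 (Or.inr rfl))).symm

/-- `z ∈ Q^g` if `z^g ∈ Q`, `z^g ≠ z`. -/
theorem ESData.z_mem_conj [Finite G] (h : ESData Q z) (g : G) (hsQ : g * z * g⁻¹ ∈ Q)
    (hne : g * z * g⁻¹ ≠ z) : z ∈ Q.map (MulAut.conj g).toMonoidHom := by
  obtain ⟨x, hxs, hxz⟩ := h.exists_swap g hsQ hne
  have hP := h.conj g
  have hgz : g⁻¹ * (g * z * g⁻¹) * g = z := by group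
  generalize g * z * g⁻¹ = s at *
  have hs1 : s ≠ 1 := hP.z1
  have hss : s * s = 1 := hP.zz
  obtain ⟨q, hqQ, hq⟩ := h.exists_q hsQ hs1 hne
  have hzs : Commute z s := (h.zc s hsQ).symm
  have hqz : q * z * q⁻¹ = z := conj_eq_of_commute (h.zc q hqQ)
  have hqz' : q⁻¹ * z * q = z := by
    have := conj_eq_of_commute (h.zc q hqQ).inv_left
    rwa [inv_inv] at this
  have e1 : (q * x * q⁻¹) * z * (q * x * q⁻¹)⁻¹ = s := by
    calc (q * x * q⁻¹) * z * (q * x * q⁻¹)⁻¹ = q * (x * (q⁻¹ * z * q) * x⁻¹) * q⁻¹ := by group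
      _ = q * (x * z * x⁻¹) * q⁻¹ := by rw [hqz']
      _ = q * (z * s) * q⁻¹ := by rw [hxz]
      _ = (q * z * q⁻¹) * (q * s * q⁻¹) := by group
      _ = z * (z * s) := by rw [hqz, hq]
      _ = (z * z) * s := by group
      _ = s := by rw [h.zz, one_mul]
  have e2 : (q * x * q⁻¹) * s * (q * x * q⁻¹)⁻¹ = z := by
    calc (q * x * q⁻¹) * s * (q * x * q⁻¹)⁻¹ = q * (x * (q⁻¹ * s * q) * x⁻¹) * q⁻¹ := by group
      _ = q * (x * (z * s) * x⁻¹) * q⁻¹ := by rw [h.rel_qinv hqQ hq]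
      _ = q * ((x * z * x⁻¹) * (x * s * x⁻¹)) * q⁻¹ := by group
      _ = q * ((z * s) * s) * q⁻¹ := by rw [hxz, conj_eq_of_commute hxs]
      _ = q * z * q⁻¹ := by rw [mul_assoc z, hss, mul_one]
      _ = z := hqz
  generalize q * x * q⁻¹ = hh at e1 e2
  have hn : Commute (g⁻¹ * hh) z := by
    apply commute_of_conj_eq
    calc g⁻¹ * hh * z * (g⁻¹ * hh)⁻¹ = g⁻¹ * (hh * z * hh⁻¹) * g := by group
      _ = g⁻¹ * s * g := by rw [e1]
      _ = z := hgz
  have h1 := h.norm _ hn s hsQ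
  rw [mem_map_conj_iff]
  have e3 : g⁻¹ * z * g = g⁻¹ * hh * s * (g⁻¹ * hh)⁻¹ := by
    rw [← e2]; group
  rw [e3]; exact h1

/-- Elementwise data plus a conjugate of `z` in `Q ∖ ⟨z⟩` give a large extraspecial subgroup. -/
theorem ESData.isLargeExtraspecial_of_conj [Finite G] (h : ESData Q z) (g : G)
    (hsQ : g * z * g⁻¹ ∈ Q) (hne : g * z * g⁻¹ ≠ z) : Cfsg.IsLargeExtraspecial Q := by
  have hP := h.conj g
  have hzP := h.z_mem_conj g hsQ hne
  refine ⟨isExtraspecial_of_sub h.zQ h.z1 h.zz h.comm h.zc (fun c _ hc => h.cent c hc)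
    ⟨_, hsQ, hP.z1, hne⟩ h.two, h.L2, h.L3, ?_⟩
  have hPC : Q.map (MulAut.conj g).toMonoidHom ≤ Subgroup.centralizer ({g * z * g⁻¹} : Set G) :=
    fun a ha => Subgroup.mem_centralizer_singleton_iff.2 (hP.zc a ha)
  have hnorm : ((Q.map (MulAut.conj g).toMonoidHom).subgroupOf
      (Subgroup.centralizer ({g * z * g⁻¹} : Set G))).Normal := by
    constructor
    intro n hn c
    rw [Subgroup.mem_subgroupOf] at hn ⊢
    exact hP.norm c (Subgroup.mem_centralizer_singleton_iff.1 c.2) n hn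
  have hle : (Q.map (MulAut.conj g).toMonoidHom).subgroupOf
      (Subgroup.centralizer ({g * z * g⁻¹} : Set G)) ≤ Cfsg.pCore 2 _ :=
    le_sSup ⟨hnorm, hP.two.comap_subtype⟩
  exact Cfsg.Agent.S5427.large_of_core h hsQ hP.zz hP.z1 hne (hPC hzP)
    (hle (by rw [Subgroup.mem_subgroupOf]; exact hzP))

end Cfsg.Agent.Lib.Helper92
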