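import Mathlib
import Cfsg.Prelude.Def_MonsterType
import Cfsg.Agent.Lib.Helper92.ESPair
import Cfsg.Agent.Lib.Helper92.FourGroup
import Cfsg.Agent.Lib.Helper92.CommClosure
import Cfsg.Agent.Lib.Helper3.PGroup

set_option autoImplicit false

namespace Cfsg.Agent.Lib.Helper92

variable {G : Type*} [Group G]

/-- Symmetric data for a pair of extraspecial subgroups `Q`, `P = Q^g` with `s = z^g ∈ Q`,
`z ∈ P`. -/
structure PairData (Q P : Subgroup G) (z s : G) : Prop where
  hQ : ESData Q z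
  hP : ESData P s
  sQ : s ∈ Q
  zP : z ∈ P
  ne : s ≠ z
  sqQ : ∀ a ∈ Q, a * a = 1 ∨ a * a = z
  sqP : ∀ a ∈ P, a * a = 1 ∨ a * a = s
  swQ : ∀ n : G, n * z * n⁻¹ = s → ∀ a ∈ Q, n * a * n⁻¹ ∈ P
  swP : ∀ n : G, n * s * n⁻¹ = z → ∀ a ∈ P, n * a * n⁻¹ ∈ Q

theorem PairData.symm {Q P : Subgroup G} {z s : G} (h : PairData Q P z s) : PairData P Q s z :=
  ⟨h.hP, h.hQ, h.zP, h.sQ, h.ne.symm, h.sqP, h.sqQ, h.swP, h.swQ⟩

/-- squares in an extraspecial 2-group are central -/
theorem sq_mem_ZZ [Finite G] {Q : Subgroup G} (hL1 : Cfsg.IsExtraspecial 2 ↥Q) {a : G}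
    (ha : a ∈ Q) : a * a ∈ ZZ Q := by
  have : Fact (Nat.Prime 2) := ⟨Nat.prime_two⟩
  have h1 := Cfsg.Agent.Lib.Helper3.pow_p_mem_frattini hL1.1.1 (⟨a, ha⟩ : Q)
  rw [hL1.1.2.1] at h1
  refine ⟨_, h1, ?_⟩
  simp [sq]

theorem PairData.of [Finite G] {Q : Subgroup G} (hL1 : Cfsg.IsExtraspecial 2 ↥Q) {z g : G}
    (h : ESData Q z) (hzall : ∀ x ∈ ZZ Q, x = 1 ∨ x = z) (hs : g * z * g⁻¹ ∈ Q)
    (hne : g * z * g⁻¹ ≠ z) (hzP : z ∈ Q.map (MulAut.conj g).toMonoidHom) :
    PairData Q (Q.map (MulAut.conj g).toMonoidHom) z (g * z * g⁻¹) where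
  hQ := h
  hP := h.conj g
  sQ := hs
  zP := hzP
  ne := hne
  sqQ := fun a ha => hzall _ (sq_mem_ZZ hL1 ha)
  sqP := by
    rintro _ ⟨a, ha, rfl⟩
    have e : (MulAut.conj g).toMonoidHom a * (MulAut.conj g).toMonoidHom a = g * (a * a) * g⁻¹ := by
      simp [mul_assoc]
    rw [e]
    rcases hzall _ (sq_mem_ZZ hL1 ha) with h1 | h1
    · left; rw [h1]; group
    · right; rw [h1]
  swQ := by
    intro n hn a ha
    have h1 : Commute (g⁻¹ * n) z := by
      apply commute_of_conj_eq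
      calc g⁻¹ * n * z * (g⁻¹ * n)⁻¹ = g⁻¹ * (n * z * n⁻¹) * g := by group
        _ = z := by rw [hn]; group
    refine ⟨_, h.norm _ h1 a ha, ?_⟩
    simp [mul_assoc]
  swP := by
    rintro n hn _ ⟨a, ha, rfl⟩
    have h1 : Commute (n * g) z := by
      apply commute_of_conj_eq
      calc n * g * z * (n * g)⁻¹ = n * (g * z * g⁻¹) * n⁻¹ := by group
        _ = z := hn
    have := h.norm _ h1 a ha
    have e : n * (MulAut.conj g).toMonoidHom a * n⁻¹ = n * g * a * (n * g)⁻¹ := by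
      simp [mul_assoc]
    rw [e]; exact this

section

variable {Q P : Subgroup G} {z s : G}

theorem PairData.zs (h : PairData Q P z s) : Commute z s := (h.hQ.zc s h.sQ).symm

theorem ESData.conj_cases (h : ESData Q z) {a b : G} (ha : a ∈ Q) (hb : b ∈ Q) :
    a * b * a⁻¹ = b ∨ a * b * a⁻¹ = z * b := by
  rcases h.comm a ha b hb with h1 | h1
  · left
    calc a * b * a⁻¹ = (a * b * a⁻¹ * b⁻¹) * b := by group
      _ = b := by rw [h1, one_mul]
  · right
    calc a * b * a⁻¹ = (a * b * a⁻¹ * b⁻¹) * b := by group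
      _ = z * b := by rw [h1]

/-- `[a, c] ∈ C_Q(s)` for `a ∈ Q` and `c` centralizing `z` and `s`. -/
theorem ESData.comm_mem_U (h : ESData Q z) (hs : s ∈ Q) {a c : G} (ha : a ∈ Q)
    (hcz : Commute c z) (hcs : Commute c s) :
    a * c * a⁻¹ * c⁻¹ ∈ Q ⊓ Subgroup.centralizer {s} := by
  rw [Subgroup.mem_inf, Subgroup.mem_centralizer_singleton_iff]
  constructor
  · have h1 := h.norm c hcz a⁻¹ (Q.inv_mem ha)
    have e : a * c * a⁻¹ * c⁻¹ = a * (c * a⁻¹ * c⁻¹) := by group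
    rw [e]; exact Q.mul_mem ha h1
  · rcases h.conj_cases ha hs with h1 | h1
    · have h2 : Commute a s := commute_of_conj_eq h1
      exact (((h2.mul_left hcs).mul_left h2.inv_left).mul_left hcs.inv_left).eq
    · apply (commute_of_conj_eq _).eq
      have h2 : a⁻¹ * s * a = z * s := h.rel_qinv ha h1
      have h3 : c⁻¹ * s * c = s := by
        have := conj_eq_of_commute hcs.inv_left
        rwa [inv_inv] at this
      have h4 : c * (z * s) * c⁻¹ = z * s := conj_eq_of_commute (hcz.mul_right hcs)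
      have h5 : a * (z * s) * a⁻¹ = s := by
        calc a * (z * s) * a⁻¹ = (a * z * a⁻¹) * (a * s * a⁻¹) := by group
          _ = z * (z * s) := by rw [conj_eq_of_commute (h.zc a ha), h1]
          _ = (z * z) * s := by group
          _ = s := by rw [h.zz, one_mul]
      calc a * c * a⁻¹ * c⁻¹ * s * (a * c * a⁻¹ * c⁻¹)⁻¹
          = a * (c * (a⁻¹ * (c⁻¹ * s * c) * a) * c⁻¹) * a⁻¹ := by group
        _ = s := by rw [h3, h2, h4, h5]


/-- `R = C_P(z) C_Q(s)` -/
abbrev PR (Q P : Subgroup G) (z s : G) : Subgroup G :=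
  (P ⊓ Subgroup.centralizer {z}) ⊔ (Q ⊓ Subgroup.centralizer {s})

/-- `C(z) ∩ C(s)` -/
abbrev PY (z s : G) : Subgroup G := Subgroup.centralizer {z} ⊓ Subgroup.centralizer {s}

theorem mem_PY {c : G} : c ∈ PY z s ↔ Commute c z ∧ Commute c s := by
  rw [Subgroup.mem_inf, Subgroup.mem_centralizer_singleton_iff,
    Subgroup.mem_centralizer_singleton_iff]
  exact Iff.rfl

theorem PR_symm : PR P Q s z = PR Q P z s := sup_comm _ _

theorem PY_symm : PY s z = PY z s := inf_comm _ _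

theorem PairData.UQ_le_Y (h : PairData Q P z s) : Q ⊓ Subgroup.centralizer {s} ≤ PY z s := by
  intro u hu
  rw [Subgroup.mem_inf] at hu
  exact Subgroup.mem_inf.2 ⟨Subgroup.mem_centralizer_singleton_iff.2 (h.hQ.zc u hu.1), hu.2⟩

theorem PairData.R_le_Y (h : PairData Q P z s) : PR Q P z s ≤ PY z s := by
  apply sup_le
  · have := h.symm.UQ_le_Y
    rwa [PY_symm] at this
  · exact h.UQ_le_Y

theorem PairData.commQ_mem_R (h : PairData Q P z s) {a c : G} (ha : a ∈ Q) (hc : c ∈ PY z s) :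
    a * c * a⁻¹ * c⁻¹ ∈ PR Q P z s :=
  Subgroup.mem_sup_right (h.hQ.comm_mem_U h.sQ ha (mem_PY.1 hc).1 (mem_PY.1 hc).2)

theorem PairData.commP_mem_R (h : PairData Q P z s) {a c : G} (ha : a ∈ P) (hc : c ∈ PY z s) :
    a * c * a⁻¹ * c⁻¹ ∈ PR Q P z s :=
  Subgroup.mem_sup_left (h.hP.comm_mem_U h.zP ha (mem_PY.1 hc).2 (mem_PY.1 hc).1)

theorem PairData.X_le_normalizer_R (h : PairData Q P z s) :
    Q ⊔ P ≤ Subgroup.normalizer (PR Q P z s : Set G) := by
  apply sup_le
  · apply le_normalizer_of_conj_mem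
    intro a ha r hr
    have e : a * r * a⁻¹ = (a * r * a⁻¹ * r⁻¹) * r := by group
    rw [e]
    exact Subgroup.mul_mem _ (h.commQ_mem_R ha (h.R_le_Y hr)) hr
  · apply le_normalizer_of_conj_mem
    intro a ha r hr
    have e : a * r * a⁻¹ = (a * r * a⁻¹ * r⁻¹) * r := by group
    rw [e]
    exact Subgroup.mul_mem _ (h.commP_mem_R ha (h.R_le_Y hr)) hr

theorem PairData.comm_X_Y (h : PairData Q P z s) {x c : G} (hx : x ∈ Q ⊔ P) (hc : c ∈ PY z s) :
    x * c * x⁻¹ * c⁻¹ ∈ PR Q P z s := by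
  rw [sup_eq_closure_union] at hx
  refine comm_mem_closure_left ?_ ?_ x hx
  · rintro a (ha | ha)
    · exact h.X_le_normalizer_R (Subgroup.mem_sup_left ha)
    · exact h.X_le_normalizer_R (Subgroup.mem_sup_right ha)
  · rintro a (ha | ha)
    · exact h.commQ_mem_R ha hc
    · exact h.commP_mem_R ha hc

theorem PairData.R_le_X (h : PairData Q P z s) : PR Q P z s ≤ Q ⊔ P :=
  sup_le (inf_le_left.trans le_sup_right) (inf_le_left.trans le_sup_left)

theorem PairData.Y_conj_X (h : PairData Q P z s) {x c : G} (hx : x ∈ Q ⊔ P) (hc : c ∈ PY z s) :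
    c * x * c⁻¹ ∈ Q ⊔ P := by
  have h1 := h.R_le_X (h.comm_X_Y (Subgroup.inv_mem _ hx) hc)
  have e : c * x * c⁻¹ = x * (x⁻¹ * c * x⁻¹⁻¹ * c⁻¹) := by group
  rw [e]
  exact Subgroup.mul_mem _ hx h1

theorem PairData.R_isPGroup (h : PairData Q P z s) : IsPGroup 2 (PR Q P z s) := by
  apply IsPGroup.to_sup_of_normal_right' (h.hP.two.to_le inf_le_left) (h.hQ.two.to_le inf_le_left)
  apply le_normalizer_of_conj_mem
  intro c hc u hu
  have hcY : c ∈ PY z s := h.R_le_Y (Subgroup.mem_sup_left hc)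
  rw [Subgroup.mem_inf] at hu ⊢
  refine ⟨h.hQ.norm c (mem_PY.1 hcY).1 u hu.1, ?_⟩
  exact Subgroup.mul_mem _ (Subgroup.mul_mem _ (Subgroup.mem_inf.1 hcY).2 hu.2)
    (Subgroup.inv_mem _ (Subgroup.mem_inf.1 hcY).2)

/-! ### the four-group -/

theorem PairData.mem_V (h : PairData Q P z s) {v : G} :
    v ∈ Subgroup.closure ({z, s} : Set G) ↔ v = 1 ∨ v = z ∨ v = s ∨ v = z * s := by
  have e : Subgroup.closure ({z, s} : Set G) = fourGroup z s h.hQ.zz h.hP.zz h.zs := by
    apply le_antisymm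
    · rw [Subgroup.closure_le]
      rintro x (rfl | rfl)
      · exact Or.inr (Or.inl rfl)
      · exact Or.inr (Or.inr (Or.inl rfl))
    · have hz : z ∈ Subgroup.closure ({z, s} : Set G) := Subgroup.subset_closure (by simp)
      have hs : s ∈ Subgroup.closure ({z, s} : Set G) := Subgroup.subset_closure (by simp)
      rintro x (rfl | rfl | rfl | rfl)
      · exact one_mem _
      · exact hz
      · exact hs
      · exact mul_mem hz hs
  rw [e]; exact mem_fourGroup

theorem PairData.centralizer_V (h : PairData Q P z s) :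
    Subgroup.centralizer (Subgroup.closure ({z, s} : Set G) : Set G) = PY z s := by
  ext c
  rw [mem_PY, Subgroup.mem_centralizer_iff]
  constructor
  · intro hc
    exact ⟨(hc z (Subgroup.subset_closure (by simp))).symm,
      (hc s (Subgroup.subset_closure (by simp))).symm⟩
  · rintro ⟨h1, h2⟩ v hv
    rcases h.mem_V.1 hv with rfl | rfl | rfl | rfl
    · simp
    · exact h1.symm.eq
    · exact h2.symm.eq
    · exact (h1.mul_right h2).symm.eq

theorem PairData.Cz_inf_centralizer_V (h : PairData Q P z s) :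
    Subgroup.centralizer {z} ⊓ Subgroup.centralizer (Subgroup.closure ({z, s} : Set G) : Set G)
      = PY z s := by
  rw [h.centralizer_V]
  exact inf_eq_right.2 inf_le_left

theorem PairData.zs_ne_one (h : PairData Q P z s) : z * s ≠ 1 := by
  intro h1
  apply h.ne
  calc s = (z * z) * s := by rw [h.hQ.zz, one_mul]
    _ = z * (z * s) := by group
    _ = z := by rw [h1, mul_one]

theorem PairData.zs_ne_z (h : PairData Q P z s) : z * s ≠ z := by
  intro h1
  apply h.hP.z1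
  calc s = z⁻¹ * (z * s) := by group
    _ = 1 := by rw [h1]; group

theorem PairData.zs_ne_s (h : PairData Q P z s) : z * s ≠ s := by
  intro h1
  apply h.hQ.z1
  calc z = (z * s) * s⁻¹ := by group
    _ = 1 := by rw [h1]; group

end

end Cfsg.Agent.Lib.Helper92
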