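import Mathlib
import Cfsg.Agent.Lib.Helper92.ESPair2
import Cfsg.Agent.Lib.Helper92.ESLarge
import Cfsg.Agent.Lib.Helper36.CentralAut
import Cfsg.Agent.Lib.Helper27.Layer

set_option autoImplicit false

namespace Cfsg.Agent.Lib.Helper92

variable {G : Type*} [Group G] {E : Subgroup G} {w : G}

theorem ESData.sq [Finite G] (h : ESData E w) (hL1 : Cfsg.IsExtraspecial 2 ↥E) {a : G}
    (ha : a ∈ E) : a * a = 1 ∨ a * a = w :=
  h.mem_ZZ.1 (sq_mem_ZZ hL1 ha)

/-- a subgroup of `E` containing `w` is normalized by `E` -/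
theorem ESData.conj_mem_of_w_mem (h : ESData E w) {H : Subgroup G} (hHE : H ≤ E) (hw : w ∈ H)
    {v x : G} (hv : v ∈ E) (hx : x ∈ H) : v * x * v⁻¹ ∈ H := by
  rcases h.conj_cases hv (hHE hx) with h1 | h1
  · rw [h1]; exact hx
  · rw [h1]; exact H.mul_mem hw hx

/-- A subgroup `K ∋ w` of `E` avoiding `x` lies in a subgroup of index two avoiding `x`. -/
theorem ESData.exists_index_two [Finite G] (h : ESData E w)
    (sq : ∀ a ∈ E, a * a = 1 ∨ a * a = w) {K : Subgroup G} (hKE : K ≤ E) (hwK : w ∈ K) {x : G}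
    (hxK : x ∉ K) :
    ∃ H : Subgroup G, K ≤ H ∧ H ≤ E ∧ x ∉ H ∧ ∀ v ∈ E, v ∈ H ∨ x * v⁻¹ ∈ H := by
  obtain ⟨H, hHmax⟩ := Set.Finite.exists_maximal
    (s := {H : Subgroup G | K ≤ H ∧ H ≤ E ∧ x ∉ H}) (Set.toFinite _) ⟨K, le_rfl, hKE, hxK⟩
  obtain ⟨⟨hKH, hHE, hxH⟩, hmax⟩ := hHmax
  refine ⟨H, hKH, hHE, hxH, ?_⟩
  intro v hv
  by_contra hcon
  push Not at hcon
  obtain ⟨hvH, hxv⟩ := hcon
  have hwH : w ∈ H := hKH hwK
  have hnorm : Subgroup.zpowers v ≤ Subgroup.normalizer (H : Set G) := by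
    apply le_normalizer_of_conj_mem
    intro a ha y hy
    exact h.conj_mem_of_w_mem hHE hwH ((Subgroup.zpowers_le.2 hv) ha) hy
  have hx' : x ∉ H ⊔ Subgroup.zpowers v := by
    intro hx
    obtain ⟨y, hy, b, hb, hyb⟩ :=
      (Cfsg.Agent.Lib.Helper27.mem_sup_of_right_le_normalizer hnorm).1 hx
    have hvv : v * v ∈ H := by
      rcases sq v hv with h1 | h1
      · rw [h1]; exact one_mem _
      · rw [h1]; exact hwH
    -- every power of `v` lies in `H` or in `H v`
    have hpow : ∀ b ∈ Subgroup.zpowers v, b ∈ H ∨ b * v⁻¹ ∈ H := by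
      intro b hb
      obtain ⟨k, rfl⟩ := hb
      have h2 : ∀ m : ℤ, v ^ (2 * m) ∈ H := by
        intro m
        rw [zpow_mul]
        apply H.zpow_mem
        have : v ^ (2 : ℤ) = v * v := by
          rw [show (2 : ℤ) = 1 + 1 from rfl, zpow_add, zpow_one]
        rw [this]; exact hvv
      rcases Int.even_or_odd' k with ⟨m, rfl | rfl⟩
      · left; exact h2 m
      · right
        show v ^ (2 * m + 1) * v⁻¹ ∈ H
        rw [zpow_add, zpow_one, mul_inv_cancel_right]; exact h2 m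
    rcases hpow b hb with h1 | h1
    · exact hxH (hyb ▸ H.mul_mem hy h1)
    · apply hxv
      rw [← hyb, mul_assoc]
      exact H.mul_mem hy h1
  have hle : H ≤ H ⊔ Subgroup.zpowers v := le_sup_left
  have := hmax ⟨hKH.trans hle, sup_le hHE (Subgroup.zpowers_le.2 hv), hx'⟩ hle
  exact hvH (this (Subgroup.mem_sup_right (Subgroup.mem_zpowers v)))

open Classical in
/-- Double centralizer property: if `x ∈ E` is outside `K ∋ w`, some `a ∈ E` centralizes `K`
and moves `x`. -/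
theorem ESData.exists_centralizing [Finite G] (h : ESData E w)
    (hL1 : Cfsg.IsExtraspecial 2 ↥E) {K : Subgroup G} (hKE : K ≤ E) (hwK : w ∈ K) {x : G}
    (hxE : x ∈ E) (hxK : x ∉ K) :
    ∃ a ∈ E, (∀ k ∈ K, Commute a k) ∧ a * x * a⁻¹ = w * x := by
  have : Fact (Nat.Prime 2) := ⟨Nat.prime_two⟩
  obtain ⟨H, hKH, hHE, hxH, hH⟩ := h.exists_index_two (fun a ha => h.sq hL1 ha) hKE hwK hxK
  have hwH : w ∈ H := hKH hwK
  have hoo : ∀ a ∈ E, ∀ b ∈ E, a ∉ H → b ∉ H → a * b ∈ H := by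
    intro a ha b hb haH hbH
    have h1 : x * a⁻¹ ∈ H := (hH a ha).resolve_left haH
    have h2 : x * b⁻¹ ∈ H := (hH b hb).resolve_left hbH
    have h3 : b * b ∈ H := by
      rcases h.sq hL1 hb with h4 | h4
      · rw [h4]; exact one_mem _
      · rw [h4]; exact hwH
    have e : a * b = (x * a⁻¹)⁻¹ * (x * b⁻¹) * (b * b) := by group
    rw [e]
    exact H.mul_mem (H.mul_mem (H.inv_mem h1) h2) h3
  let W : ↥E := ⟨w, h.zQ⟩
  have hWc : ∀ e : ↥E, e * W = W * e := fun e => Subtype.ext (h.zc e e.2)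
  have hWW : W * W = 1 := Subtype.ext h.zz
  let φ : ↥E →* ↥E := MonoidHom.mk' (fun e => if (e : G) ∈ H then e else W * e) (by
    intro a b
    by_cases ha : (a : G) ∈ H <;> by_cases hb : (b : G) ∈ H
    · have hab : ((a * b : ↥E) : G) ∈ H := H.mul_mem ha hb
      simp only [ha, hb, hab, if_true]
    · have hab : ((a * b : ↥E) : G) ∉ H := fun hab => hb (by
        have := H.mul_mem (H.inv_mem ha) hab
        simpa using this)
      simp only [ha, hb, hab, if_true, if_false]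
      rw [← mul_assoc, ← mul_assoc, hWc a]
    · have hab : ((a * b : ↥E) : G) ∉ H := fun hab => ha (by
        have := H.mul_mem hab (H.inv_mem hb)
        simpa using this)
      simp only [ha, hb, hab, if_true, if_false]
      rw [mul_assoc]
    · have hab : ((a * b : ↥E) : G) ∈ H := hoo a a.2 b b.2 ha hb
      simp only [ha, hb, hab, if_true, if_false]
      calc a * b = (W * W) * (a * b) := by rw [hWW, one_mul]
        _ = W * (W * a) * b := by simp only [mul_assoc]
        _ = W * (a * W) * b := by rw [hWc a]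
        _ = W * a * (W * b) := by simp only [mul_assoc])
  have hφ : ∀ e : ↥E, φ e * e⁻¹ ∈ Subgroup.center ↥E := by
    intro e
    show (if (e : G) ∈ H then e else W * e) * e⁻¹ ∈ Subgroup.center ↥E
    by_cases he : (e : G) ∈ H
    · simp only [he, if_true, mul_inv_cancel]; exact one_mem _
    · simp only [he, if_false, mul_inv_cancel_right]
      rw [Subgroup.mem_center_iff]
      exact hWc
  obtain ⟨a, ha⟩ := Cfsg.Agent.Lib.Helper36.exists_conj_of_central_endo hL1.1.2.2 hL1.2 φ hφ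
  refine ⟨a, a.2, ?_, ?_⟩
  · intro k hk
    apply commute_of_conj_eq
    have h1 := ha ⟨k, hKE hk⟩
    have h2 : φ ⟨k, hKE hk⟩ = ⟨k, hKE hk⟩ := by
      show (if k ∈ H then (⟨k, hKE hk⟩ : ↥E) else W * ⟨k, hKE hk⟩) = _
      simp only [hKH hk, if_true]
    rw [h2] at h1
    exact (congrArg Subtype.val h1).symm
  · have h1 := ha ⟨x, hxE⟩
    have h2 : φ ⟨x, hxE⟩ = W * ⟨x, hxE⟩ := by
      show (if x ∈ H then (⟨x, hxE⟩ : ↥E) else W * ⟨x, hxE⟩) = _
      simp only [hxH, if_false]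
    rw [h2] at h1
    exact (congrArg Subtype.val h1).symm

end Cfsg.Agent.Lib.Helper92
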