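import Mathlib
import Cfsg.Agent.Lib.Helper92.ESDual
import Cfsg.Agent.Lib.Helper92.ESEquiv
import Cfsg.Agent.Lib.Helper92.CommClosure
import Cfsg.Agent.Lib.Helper36.GF2Type
import Cfsg.Agent.Lib.Helper1.Cores

set_option autoImplicit false

namespace Cfsg.Agent.Lib.Helper92

universe u

variable {G : Type u} [Group G]

/-- `O₂(C_G(x))` viewed in `G` -/
abbrev O2C (x : G) : Subgroup G :=
  (Cfsg.pCore 2 ↥(Subgroup.centralizer ({x} : Set G))).map
    (Subgroup.centralizer ({x} : Set G)).subtype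

theorem O2C_conj (x g : G) :
    O2C (g * x * g⁻¹) = (O2C x).map (MulAut.conj g).toMonoidHom := by
  have h := Cfsg.Agent.Lib.Helper28.pCore_map_equiv 2 (Cfsg.Agent.Lib.Helper36.conjCC x g)
  change (Cfsg.pCore 2 ↥(Subgroup.centralizer ({g * x * g⁻¹} : Set G))).map _ = _
  rw [← h, Subgroup.map_map, Subgroup.map_map]
  congr 1

/-- The setting: `O₂(C(z))` extraspecial and self-centralizing. -/
theorem ESData.of_O2C [Finite G] {z : G} (hz : orderOf z = 2)
    (hE : Cfsg.IsExtraspecial 2 ↥(O2C z))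
    (hC : Subgroup.centralizer ((O2C z : Subgroup G) : Set G) ≤ O2C z) : ESData (O2C z) z := by
  have hQC : O2C z ≤ Subgroup.centralizer ({z} : Set G) := Subgroup.map_subtype_le _
  have hzC : z ∈ Subgroup.centralizer ({z} : Set G) := Subgroup.mem_centralizer_singleton_iff.2 rfl
  have hzQ : z ∈ O2C z := by
    have hn : (Subgroup.zpowers (⟨z, hzC⟩ : ↥(Subgroup.centralizer ({z} : Set G)))).Normal := by
      refine ⟨fun n hn c => ?_⟩
      obtain ⟨k, rfl⟩ := hn
      have h1 : c * ⟨z, hzC⟩ = ⟨z, hzC⟩ * c :=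
        Subtype.ext (Subgroup.mem_centralizer_singleton_iff.1 c.2)
      have h2 : Commute c (⟨z, hzC⟩ ^ k) := Commute.zpow_right h1 k
      show c * ⟨z, hzC⟩ ^ k * c⁻¹ ∈ _
      rw [conj_eq_of_commute h2]
      exact ⟨k, rfl⟩
    have hp : IsPGroup 2 (Subgroup.zpowers (⟨z, hzC⟩ : ↥(Subgroup.centralizer ({z} : Set G)))) := by
      apply isPGroup_zpowers_of_orderOf (k := 1)
      rw [Subgroup.orderOf_mk, hz, pow_one]
    exact ⟨⟨z, hzC⟩, Cfsg.Agent.Lib.Helper1.le_pCore hn hp (Subgroup.mem_zpowers _), rfl⟩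
  have hzZ : z ∈ ZZ (O2C z) := by
    rw [mem_ZZ_iff]
    exact ⟨hzQ, fun a ha => Subgroup.mem_centralizer_singleton_iff.1 (hQC ha)⟩
  have hz1 : z ≠ 1 := by
    intro h
    rw [h, orderOf_one] at hz
    omega
  obtain ⟨z', hz'Z, hz'1, -, hz'all, -⟩ := exists_gen_of_card_two _ (card_ZZ hE)
  have hzz' : z = z' := by
    rcases hz'all z hzZ with h1 | h1
    · exact absurd h1 hz1
    · exact h1
  rw [← hzz'] at hz'all
  have hL2 : Subgroup.centralizer ((O2C z : Subgroup G) : Set G) =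
      ((Subgroup.center ↥(O2C z)).map (O2C z).subtype) := by
    ext c
    show _ ↔ c ∈ ZZ (O2C z)
    rw [mem_ZZ_iff, Subgroup.mem_centralizer_iff]
    constructor
    · intro hc
      exact ⟨hC (Subgroup.mem_centralizer_iff.2 hc), fun a ha => hc a ha⟩
    · rintro ⟨-, hc⟩ a ha
      exact hc a ha
  have hL3 : Subgroup.centralizer (((Subgroup.center ↥(O2C z)).map (O2C z).subtype) : Set G) ≤
      Subgroup.normalizer ((O2C z : Subgroup G) : Set G) := by
    apply le_normalizer_of_conj_mem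
    rintro c hc _ ⟨a, ha, rfl⟩
    have hcC : c ∈ Subgroup.centralizer ({z} : Set G) := by
      rw [Subgroup.mem_centralizer_singleton_iff]
      exact ((Subgroup.mem_centralizer_iff.1 hc) z hzZ).symm
    have hn := Cfsg.Agent.Lib.Helper1.pCore_normal 2 ↥(Subgroup.centralizer ({z} : Set G))
    exact ⟨⟨c, hcC⟩ * a * ⟨c, hcC⟩⁻¹, hn.conj_mem a ha _, rfl⟩
  exact ESData.of hE hL2 hL3 hzZ hz1 hz hz'all

/-- Data of the singular setting, for all conjugates of `z`. -/
structure Sing (Q : G → Subgroup G) (z : G) : Prop where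
  conj : ∀ x g : G, Q (g * x * g⁻¹) = (Q x).map (MulAut.conj g).toMonoidHom
  es : ∀ g : G, ESData (Q (g * z * g⁻¹)) (g * z * g⁻¹)
  ex : ∀ g : G, Cfsg.IsExtraspecial 2 ↥(Q (g * z * g⁻¹))

theorem Sing.of [Finite G] (Q : G → Subgroup G)
    (hQ : ∀ x : G, Q x = (Cfsg.pCore 2 ↥(Subgroup.centralizer ({x} : Set G))).map
      (Subgroup.centralizer ({x} : Set G)).subtype)
    (z : G) (hz : orderOf z = 2) (hE : Cfsg.IsExtraspecial 2 ↥(Q z))
    (hC : Subgroup.centralizer ((Q z : Subgroup G) : Set G) ≤ Q z) : Sing Q z := by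
  have hQ' : Q = O2C := funext hQ
  subst hQ'
  have h := ESData.of_O2C hz hE hC
  refine ⟨O2C_conj, ?_, ?_⟩
  · intro g
    rw [O2C_conj]
    exact h.conj g
  · intro g
    rw [O2C_conj]
    exact isExtraspecial_of_equiv
      ((O2C z).equivMapOfInjective _ (MulAut.conj g).injective) hE

end Cfsg.Agent.Lib.Helper92
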