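import Mathlib
import Cfsg.Agent.Lib.Helper28.Rel
import Cfsg.Agent.Lib.Helper28.RelBalance
import Cfsg.Agent.Lib.Helper28.BenderPair

/-! The Thompson-Wielandt configuration: two "primitive" subgroups and their iterated cores. -/

set_option autoImplicit false

namespace Cfsg.Agent.Lib.Helper92

open Cfsg.Agent.Lib.Helper28

variable {G : Type*} [Group G]

/-- The Thompson-Wielandt configuration. `A₁ = core_M (M ∩ N)`, `B₁ = core_N (M ∩ N)`,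
`A₂ = core_M (A₁ ∩ B₁)`, `B₂ = core_N (A₁ ∩ B₁)`, all given elementwise. -/
structure TW (M N A₁ B₁ A₂ B₂ : Subgroup G) : Prop where
  primM : ∀ X : Subgroup G, X ≠ ⊥ → X ≤ M → M ≤ Subgroup.normalizer (X : Set G) →
    Subgroup.normalizer (X : Set G) ≤ M
  primN : ∀ X : Subgroup G, X ≠ ⊥ → X ≤ N → N ≤ Subgroup.normalizer (X : Set G) →
    Subgroup.normalizer (X : Set G) ≤ N
  nleM : ¬ N ≤ M
  nleN : ¬ M ≤ N
  memA₁ : ∀ x, x ∈ A₁ ↔ x ∈ M ∧ ∀ m ∈ M, m * x * m⁻¹ ∈ N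
  memB₁ : ∀ x, x ∈ B₁ ↔ x ∈ N ∧ ∀ n ∈ N, n * x * n⁻¹ ∈ M
  memA₂ : ∀ x, x ∈ A₂ ↔ x ∈ M ∧ ∀ m ∈ M, m * x * m⁻¹ ∈ A₁ ⊓ B₁
  memB₂ : ∀ x, x ∈ B₂ ↔ x ∈ N ∧ ∀ n ∈ N, n * x * n⁻¹ ∈ A₁ ⊓ B₁

namespace TW

variable {M N A₁ B₁ A₂ B₂ : Subgroup G}

theorem symm (h : TW M N A₁ B₁ A₂ B₂) : TW N M B₁ A₁ B₂ A₂ where
  primM := h.primN
  primN := h.primM
  nleM := h.nleN
  nleN := h.nleM
  memA₁ := h.memB₁
  memB₁ := h.memA₁
  memA₂ := by intro x; rw [inf_comm]; exact h.memB₂ x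
  memB₂ := by intro x; rw [inf_comm]; exact h.memA₂ x

theorem A₁_le_M (h : TW M N A₁ B₁ A₂ B₂) : A₁ ≤ M := fun x hx => ((h.memA₁ x).1 hx).1

theorem A₁_le_N (h : TW M N A₁ B₁ A₂ B₂) : A₁ ≤ N := fun x hx => by
  have := ((h.memA₁ x).1 hx).2 1 (one_mem _)
  simpa using this

theorem B₁_le_N (h : TW M N A₁ B₁ A₂ B₂) : B₁ ≤ N := h.symm.A₁_le_M

theorem B₁_le_M (h : TW M N A₁ B₁ A₂ B₂) : B₁ ≤ M := h.symm.A₁_le_N

theorem A₂_le_inf (h : TW M N A₁ B₁ A₂ B₂) : A₂ ≤ A₁ ⊓ B₁ := fun x hx => by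
  have := ((h.memA₂ x).1 hx).2 1 (one_mem _)
  simpa using this

theorem A₂_le_A₁ (h : TW M N A₁ B₁ A₂ B₂) : A₂ ≤ A₁ := h.A₂_le_inf.trans inf_le_left

theorem A₂_le_B₁ (h : TW M N A₁ B₁ A₂ B₂) : A₂ ≤ B₁ := h.A₂_le_inf.trans inf_le_right

theorem B₂_le_A₁ (h : TW M N A₁ B₁ A₂ B₂) : B₂ ≤ A₁ := h.symm.A₂_le_B₁

theorem B₂_le_B₁ (h : TW M N A₁ B₁ A₂ B₂) : B₂ ≤ B₁ := h.symm.A₂_le_A₁

theorem A₂_le_M (h : TW M N A₁ B₁ A₂ B₂) : A₂ ≤ M := h.A₂_le_A₁.trans h.A₁_le_M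

theorem A₂_le_N (h : TW M N A₁ B₁ A₂ B₂) : A₂ ≤ N := h.A₂_le_A₁.trans h.A₁_le_N

theorem B₂_le_M (h : TW M N A₁ B₁ A₂ B₂) : B₂ ≤ M := h.symm.A₂_le_N

theorem B₂_le_N (h : TW M N A₁ B₁ A₂ B₂) : B₂ ≤ N := h.symm.A₂_le_M

/-- conjugation by elements of `M` preserves `A₁` -/
theorem conj_mem_A₁ (h : TW M N A₁ B₁ A₂ B₂) {m x : G} (hm : m ∈ M) (hx : x ∈ A₁) :
    m * x * m⁻¹ ∈ A₁ := by
  rw [h.memA₁] at hx ⊢
  refine ⟨M.mul_mem (M.mul_mem hm hx.1) (M.inv_mem hm), fun k hk => ?_⟩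
  have := hx.2 (k * m) (M.mul_mem hk hm)
  simpa [mul_assoc] using this

theorem conj_mem_A₂ (h : TW M N A₁ B₁ A₂ B₂) {m x : G} (hm : m ∈ M) (hx : x ∈ A₂) :
    m * x * m⁻¹ ∈ A₂ := by
  rw [h.memA₂] at hx ⊢
  refine ⟨M.mul_mem (M.mul_mem hm hx.1) (M.inv_mem hm), fun k hk => ?_⟩
  have := hx.2 (k * m) (M.mul_mem hk hm)
  simpa [mul_assoc] using this

theorem conj_mem_B₁ (h : TW M N A₁ B₁ A₂ B₂) {n x : G} (hn : n ∈ N) (hx : x ∈ B₁) :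
    n * x * n⁻¹ ∈ B₁ := h.symm.conj_mem_A₁ hn hx

theorem conj_mem_B₂ (h : TW M N A₁ B₁ A₂ B₂) {n x : G} (hn : n ∈ N) (hx : x ∈ B₂) :
    n * x * n⁻¹ ∈ B₂ := h.symm.conj_mem_A₂ hn hx

theorem le_normalizer_of_conj_mem {H X : Subgroup G}
    (hc : ∀ g ∈ H, ∀ x ∈ X, g * x * g⁻¹ ∈ X) : H ≤ Subgroup.normalizer (X : Set G) := by
  intro g hg
  rw [Subgroup.mem_normalizer_iff]
  intro x
  constructor
  · exact hc g hg x
  · intro hx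
    have := hc g⁻¹ (H.inv_mem hg) _ hx
    simpa [mul_assoc] using this

theorem M_le_normalizer_A₁ (h : TW M N A₁ B₁ A₂ B₂) : M ≤ Subgroup.normalizer (A₁ : Set G) :=
  le_normalizer_of_conj_mem fun _ hm _ hx => h.conj_mem_A₁ hm hx

theorem M_le_normalizer_A₂ (h : TW M N A₁ B₁ A₂ B₂) : M ≤ Subgroup.normalizer (A₂ : Set G) :=
  le_normalizer_of_conj_mem fun _ hm _ hx => h.conj_mem_A₂ hm hx

theorem N_le_normalizer_B₁ (h : TW M N A₁ B₁ A₂ B₂) : N ≤ Subgroup.normalizer (B₁ : Set G) :=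
  h.symm.M_le_normalizer_A₁

theorem N_le_normalizer_B₂ (h : TW M N A₁ B₁ A₂ B₂) : N ≤ Subgroup.normalizer (B₂ : Set G) :=
  h.symm.M_le_normalizer_A₂

theorem conj_mem_of_le_normalizer {H X : Subgroup G} (hn : H ≤ Subgroup.normalizer (X : Set G))
    {g x : G} (hg : g ∈ H) (hx : x ∈ X) : g * x * g⁻¹ ∈ X :=
  (Subgroup.mem_normalizer_iff.1 (hn hg) x).1 hx

/-- universal property of `A₁` -/
theorem le_A₁ (h : TW M N A₁ B₁ A₂ B₂) {X : Subgroup G} (hXM : X ≤ M) (hXN : X ≤ N)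
    (hn : M ≤ Subgroup.normalizer (X : Set G)) : X ≤ A₁ := fun x hx =>
  (h.memA₁ x).2 ⟨hXM hx, fun _ hm => hXN (conj_mem_of_le_normalizer hn hm hx)⟩

theorem le_B₁ (h : TW M N A₁ B₁ A₂ B₂) {X : Subgroup G} (hXM : X ≤ M) (hXN : X ≤ N)
    (hn : N ≤ Subgroup.normalizer (X : Set G)) : X ≤ B₁ := h.symm.le_A₁ hXN hXM hn

/-- universal property of `A₂` -/
theorem le_A₂ (h : TW M N A₁ B₁ A₂ B₂) {X : Subgroup G} (hXA : X ≤ A₁) (hXB : X ≤ B₁)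
    (hn : M ≤ Subgroup.normalizer (X : Set G)) : X ≤ A₂ := fun x hx =>
  (h.memA₂ x).2 ⟨h.A₁_le_M (hXA hx), fun _ hm =>
    ⟨hXA (conj_mem_of_le_normalizer hn hm hx), hXB (conj_mem_of_le_normalizer hn hm hx)⟩⟩

theorem le_B₂ (h : TW M N A₁ B₁ A₂ B₂) {X : Subgroup G} (hXA : X ≤ A₁) (hXB : X ≤ B₁)
    (hn : N ≤ Subgroup.normalizer (X : Set G)) : X ≤ B₂ := h.symm.le_A₂ hXB hXA hn

/-- no nontrivial subgroup is normalized by both `M` and `N` -/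
theorem contra (h : TW M N A₁ B₁ A₂ B₂) {X : Subgroup G} (hX : X ≠ ⊥) (hXM : X ≤ M)
    (hM : M ≤ Subgroup.normalizer (X : Set G)) (hN : N ≤ Subgroup.normalizer (X : Set G)) :
    False := h.nleM (hN.trans (h.primM X hX hXM hM))

/-- centralizer trick, first level -/
theorem mem_N_of_commute (h : TW M N A₁ B₁ A₂ B₂) {X : Subgroup G} (hX : X ≠ ⊥) (hXN : X ≤ N)
    (hN : N ≤ Subgroup.normalizer (X : Set G)) {y : G} (hy : ∀ x ∈ X, y * x = x * y) : y ∈ N := by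
  apply h.primN X hX hXN hN
  rw [Subgroup.mem_normalizer_iff]
  intro x
  constructor
  · intro hx
    rw [hy x hx, mul_inv_cancel_right]; exact hx
  · intro hx
    have h2 := hy _ hx
    have h3 : x = y * x * y⁻¹ := by
      have : y * (y * x * y⁻¹) * y⁻¹ = y * x * y⁻¹ := by rw [h2, mul_inv_cancel_right]
      have h4 := mul_left_cancel (mul_right_cancel this)
      exact h4.symm
    rw [h3]; exact hx

theorem mem_M_of_commute (h : TW M N A₁ B₁ A₂ B₂) {X : Subgroup G} (hX : X ≠ ⊥) (hXM : X ≤ M)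
    (hM : M ≤ Subgroup.normalizer (X : Set G)) {y : G} (hy : ∀ x ∈ X, y * x = x * y) : y ∈ M :=
  h.symm.mem_N_of_commute hX hXM hM hy

/-- centralizer trick, second level: if `y ∈ N` commutes with all `N`-conjugates of a nontrivial
subgroup `X` normalized by `M`, then `y ∈ B₁`. -/
theorem mem_B₁_of_commute (h : TW M N A₁ B₁ A₂ B₂) {X : Subgroup G} (hX : X ≠ ⊥) (hXM : X ≤ M)
    (hM : M ≤ Subgroup.normalizer (X : Set G)) {y : G} (hyN : y ∈ N)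
    (hy : ∀ n ∈ N, ∀ x ∈ X, y * (n * x * n⁻¹) = (n * x * n⁻¹) * y) : y ∈ B₁ := by
  rw [h.memB₁]
  refine ⟨hyN, fun n hn => h.mem_M_of_commute hX hXM hM fun x hx => ?_⟩
  have := hy n⁻¹ (N.inv_mem hn) x hx
  rw [inv_inv] at this
  calc n * y * n⁻¹ * x = n * (y * (n⁻¹ * x * n)) * n⁻¹ := by group
    _ = n * ((n⁻¹ * x * n) * y) * n⁻¹ := by rw [this]
    _ = x * (n * y * n⁻¹) := by group

theorem mem_A₁_of_commute (h : TW M N A₁ B₁ A₂ B₂) {X : Subgroup G} (hX : X ≠ ⊥) (hXN : X ≤ N)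
    (hN : N ≤ Subgroup.normalizer (X : Set G)) {y : G} (hyM : y ∈ M)
    (hy : ∀ m ∈ M, ∀ x ∈ X, y * (m * x * m⁻¹) = (m * x * m⁻¹) * y) : y ∈ A₁ :=
  h.symm.mem_B₁_of_commute hX hXN hN hyM hy

end TW

end Cfsg.Agent.Lib.Helper92
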